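import Mathlib

/-!
Factorizations of `e (n p + 1)` into factors congruent to `±1`, `±e` modulo `p = e t + 1`, when
`2 n ≤ p + 2`.
-/

set_option autoImplicit false

namespace Cfsg.Agent.Block.Few

/-- `(a p + 1) (b p + e) = e (n p + 1)` forces `b = 0`. -/
theorem plus_case {p e t n a b : ℤ} (he : 2 ≤ e) (ht : 1 ≤ t) (hp : p = e * t + 1)
    (hsmall : 2 * n ≤ p + 2) (ha : 1 ≤ a) (hb : 0 ≤ b)
    (hmul : (a * p + 1) * (b * p + e) = e * (n * p + 1)) : b = 0 := by
  by_contra hne
  have hb1 : 1 ≤ b := by omega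
  have hp0 : p ≠ 0 := by nlinarith
  have h1 : a * b * p + a * e + b = e * n := by
    refine mul_left_cancel₀ hp0 ?_
    linear_combination hmul
  set j := n - a - a * b * t with hj
  have hje : b * (1 + a) = e * j := by
    rw [hj]
    rw [hp] at h1
    linear_combination h1
  have hj1 : 1 ≤ j := by
    by_contra hlt
    push Not at hlt
    have : e * j ≤ 0 := mul_nonpos_of_nonneg_of_nonpos (by linarith) (by linarith)
    nlinarith
  have h2 : 2 * (a * b) * t < e * t := by nlinarith
  have h3 : 2 * (a * b) < e := lt_of_mul_lt_mul_right h2 (by linarith)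
  have h4 : b * (1 + a) ≤ 2 * (a * b) := by nlinarith
  have h5 : e * 1 ≤ e * j := mul_le_mul_of_nonneg_left hj1 (by linarith)
  linarith

/-- `(a p - 1) (b p - e) = e (n p + 1)` forces `a = 1` and `n = b t - 1`. -/
theorem minus_case {p e t n a b : ℤ} (he : 2 ≤ e) (ht : 1 ≤ t) (hp : p = e * t + 1)
    (hsmall : 2 * n ≤ p + 2) (ha : 1 ≤ a) (hb : 1 ≤ b) (hone : b * p - e ≠ 1)
    (hmul : (a * p - 1) * (b * p - e) = e * (n * p + 1)) : a = 1 ∧ n = b * t - 1 := by
  have hp0 : p ≠ 0 := by nlinarith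
  have h1 : a * b * p - a * e - b = e * n := by
    refine mul_left_cancel₀ hp0 ?_
    linear_combination hmul
  set j := n + a - a * b * t with hj
  have hje : b * (a - 1) = e * j := by
    rw [hj]
    rw [hp] at h1
    linear_combination h1
  by_cases ha1 : a = 1
  · refine ⟨ha1, ?_⟩
    rw [ha1, sub_self, mul_zero, eq_comm, mul_eq_zero] at hje
    rcases hje with h | h
    · linarith
    · rw [hj, ha1, one_mul] at h
      linarith
  exfalso
  have ha2 : 2 ≤ a := by omega
  have hj1 : 1 ≤ j := by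
    by_contra hlt
    push Not at hlt
    have : e * j ≤ 0 := mul_nonpos_of_nonneg_of_nonpos (by linarith) (by linarith)
    nlinarith
  have hab : a * b = e * j + b := by linear_combination hje
  have hn : n = j + (e * j + b) * t - a := by rw [← hab, hj]; ring
  have hbt : 1 ≤ b * t := by nlinarith
  have hej : e * t ≤ e * j * t := by
    have := mul_le_mul_of_nonneg_left hj1 (show (0 : ℤ) ≤ e * t by positivity)
    linarith
  by_cases hb1 : b = 1
  · rw [hb1, one_mul] at hje hone
    rw [hb1] at hn hbt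
    by_cases ht1 : t = 1
    · rw [ht1, mul_one] at hp
      apply hone
      rw [hp]; ring
    have ht2 : 2 ≤ t := by omega
    have hej2 : 2 * (e * j) ≤ e * j * t := by
      have := mul_le_mul_of_nonneg_left ht2 (show (0 : ℤ) ≤ e * j by positivity)
      linarith
    nlinarith
  · have hb2 : 2 ≤ b := by omega
    have ha' : 2 * a ≤ e * j + 2 := by nlinarith
    have hejt : e * j ≤ e * j * t := le_mul_of_one_le_right (by positivity) ht
    have hbt2 : 2 ≤ b * t := by nlinarith
    nlinarith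

/-- The cofactor of a factor congruent to `1` is congruent to `e`. -/
theorem cofactor_plus {p e n a x : ℤ} (hp : 0 < p) (he : 0 ≤ e) (hep : e < p) (hx : 0 < x)
    (hmul : (a * p + 1) * x = e * (n * p + 1)) : ∃ b : ℤ, 0 ≤ b ∧ x = b * p + e := by
  refine ⟨e * n - a * x, ?_, by linear_combination hmul⟩
  by_contra hlt
  push Not at hlt
  have hx' : x = (e * n - a * x) * p + e := by linear_combination hmul
  have : (e * n - a * x) * p ≤ -1 * p := mul_le_mul_of_nonneg_right (by omega) hp.le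
  linarith

/-- The cofactor of a factor congruent to `-1` is congruent to `-e`. -/
theorem cofactor_minus {p e n a x : ℤ} (hp : 0 < p) (he : 0 < e) (hx : 0 < x)
    (hmul : (a * p - 1) * x = e * (n * p + 1)) : ∃ b : ℤ, 1 ≤ b ∧ x = b * p - e := by
  refine ⟨a * x - e * n, ?_, by linear_combination -hmul⟩
  by_contra hlt
  push Not at hlt
  have hx' : x = (a * x - e * n) * p - e := by linear_combination -hmul
  have : (a * x - e * n) * p ≤ 0 := mul_nonpos_of_nonpos_of_nonneg (by omega) hp.le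
  linarith

/-- The cofactor of a factor congruent to `e` is congruent to `1`. -/
theorem cofactor_e {p e n i x : ℕ} (hp : p.Prime) (he : 0 < e) (hep : e < p) (hx : 0 < x)
    (hmul : (i * p + e) * x = e * (n * p + 1)) : ∃ a : ℕ, x = a * p + 1 := by
  have h1 : (p : ℤ) ∣ (e : ℤ) * ((x : ℤ) - 1) := by
    refine ⟨(e : ℤ) * n - (i : ℤ) * x, ?_⟩
    have : (((i * p + e) * x : ℕ) : ℤ) = ((e * (n * p + 1) : ℕ) : ℤ) := by rw [hmul]
    push_cast at this
    linear_combination this
  have h2 : (p : ℤ) ∣ (x : ℤ) - 1 := by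
    refine (Int.Prime.dvd_mul' hp h1).resolve_left fun h => ?_
    have := Int.le_of_dvd (by exact_mod_cast he) h
    omega
  obtain ⟨a, ha⟩ : p ∣ x - 1 := by
    rw [← Int.natCast_dvd_natCast, Nat.cast_sub hx]
    exact_mod_cast h2
  exact ⟨a, by rw [mul_comm a p]; omega⟩

/-- The cofactor of a factor congruent to `-e` is congruent to `-1`. -/
theorem cofactor_neg_e {p e n J x : ℕ} (hp : p.Prime) (he : 0 < e) (hep : e < p) (hx : 0 < x)
    (hmul : ((J : ℤ) * p - e) * x = e * ((n : ℤ) * p + 1)) : ∃ a : ℕ, 1 ≤ a ∧ (x : ℤ) = (a : ℤ) * p - 1 := by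
  have h1 : (p : ℤ) ∣ (e : ℤ) * ((x : ℤ) + 1) := by
    refine ⟨(J : ℤ) * x - (e : ℤ) * n, ?_⟩
    linear_combination -hmul
  have h2 : (p : ℤ) ∣ ((x + 1 : ℕ) : ℤ) := by
    push_cast
    refine (Int.Prime.dvd_mul' hp h1).resolve_left fun h => ?_
    have := Int.le_of_dvd (by exact_mod_cast he) h
    omega
  obtain ⟨a, ha⟩ := Int.natCast_dvd_natCast.1 h2
  refine ⟨a, Nat.pos_of_ne_zero fun h => by rw [h, mul_zero] at ha; omega, ?_⟩
  have : ((x + 1 : ℕ) : ℤ) = ((p * a : ℕ) : ℤ) := by rw [ha]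
  push_cast at this
  linear_combination this

/-- The degree of a character congruent to `±1` modulo `p`. -/
theorem deg_pm {p e t n d d2 : ℕ} (hp : 5 ≤ p) (he : 2 ≤ e) (ht : 1 ≤ t) (hpet : e * t + 1 = p)
    (hsmall : 2 * n ≤ p + 2) (hd2 : 2 ≤ d) (hd2' : 0 < d2) (hmul : d * d2 = e * (n * p + 1))
    (hbig : d2 ≠ 1) :
    (d % p = 1 → d = n * p + 1) ∧ (d % p = p - 1 → d + 1 = p) := by
  have hep : e < p := by
    have := Nat.le_mul_of_pos_right e ht
    omega
  have hpet' : (p : ℤ) = (e : ℤ) * t + 1 := by exact_mod_cast hpet.symm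
  have hsmall' : 2 * (n : ℤ) ≤ (p : ℤ) + 2 := by exact_mod_cast hsmall
  have hmul' : (d : ℤ) * d2 = (e : ℤ) * ((n : ℤ) * p + 1) := by exact_mod_cast hmul
  have hdiv := Nat.div_add_mod d p
  have hpz : (0 : ℤ) < p := by exact_mod_cast (by omega : 0 < p)
  refine ⟨fun h => ?_, fun h => ?_⟩
  · rw [h] at hdiv
    have hd : (d : ℤ) = ((d / p : ℕ) : ℤ) * p + 1 := by
      rw [mul_comm]; exact_mod_cast hdiv.symm
    have ha : 1 ≤ d / p := Nat.pos_of_ne_zero fun h0 => by rw [h0, mul_zero] at hdiv; omega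
    rw [hd] at hmul'
    obtain ⟨b, hb0, hb⟩ := cofactor_plus hpz (Nat.cast_nonneg e) (by exact_mod_cast hep)
      (by exact_mod_cast hd2') hmul'
    rw [hb] at hmul'
    have hbz := plus_case (by exact_mod_cast he) (by exact_mod_cast ht) hpet' hsmall'
      (by exact_mod_cast ha) hb0 hmul'
    rw [hbz, zero_mul, zero_add] at hb hmul'
    have h2 : (d : ℤ) = (n : ℤ) * p + 1 := by
      rw [hd]
      refine mul_left_cancel₀ (show (e : ℤ) ≠ 0 by exact_mod_cast (by omega : e ≠ 0)) ?_
      linear_combination hmul'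
    exact_mod_cast h2
  · rw [h] at hdiv
    have hd : (d : ℤ) = ((d / p + 1 : ℕ) : ℤ) * p - 1 := by
      have h1 : ((d + 1 : ℕ) : ℤ) = (((d / p + 1) * p : ℕ) : ℤ) := by
        congr 1
        rw [Nat.add_mul, one_mul, mul_comm]
        omega
      push_cast at h1 ⊢
      linarith
    rw [hd] at hmul'
    obtain ⟨b, hb1, hb⟩ := cofactor_minus hpz (by exact_mod_cast (by omega : 0 < e))
      (by exact_mod_cast hd2') hmul'
    rw [hb] at hmul'
    have hone : b * (p : ℤ) - e ≠ 1 := fun h1 => hbig (by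
      rw [h1] at hb; exact_mod_cast hb)
    obtain ⟨ha, -⟩ := minus_case (by exact_mod_cast he) (by exact_mod_cast ht) hpet' hsmall'
      (by exact_mod_cast Nat.le_add_left 1 (d / p)) hb1 hone hmul'
    have h0 : d / p = 0 := by
      have : d / p + 1 = 1 := by exact_mod_cast ha
      omega
    rw [h0, mul_zero] at hdiv
    omega

end Cfsg.Agent.Block.Few
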