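import Mathlib
import Cfsg.Agent.Lib.Char.SelfCentChars
import Cfsg.Agent.Lib.Block.Cube.Torus
import Cfsg.Agent.Lib.Block.FewSylow.Arith

/-!
A group with an element of prime order `p` generating its centralizer: preliminaries on the class
equation, the orders of elements and the degrees.
-/

set_option autoImplicit false
set_option linter.unusedSectionVars false

namespace Cfsg.Agent.Block.Few

open scoped ComplexConjugate
open Cfsg Cfsg.Agent.Block Cfsg.Agent.Char

universe u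

variable {G : Type u} [Group G] [Fintype G] {p : ℕ} [Fact p.Prime] {x : G}

theorem cent_card (h : SCP.Hyp p x) {g : G} (hg : orderOf g = p) :
    Nat.card (Subgroup.centralizer ({g} : Set G)) = p := by
  rw [(SCP.hyp_of_ord h hg).cent, Nat.card_zpowers, hg]

theorem ord_eq_p (h : SCP.Hyp p x) {g : G} (hd : p ∣ orderOf g) : orderOf g = p := by
  have hvo : orderOf (g ^ (orderOf g / p)) = p := orderOf_pow_orderOf_div (orderOf_pos g).ne' hd
  have h1 := Subgroup.orderOf_dvd_natCard (Subgroup.centralizer ({g ^ (orderOf g / p)} : Set G))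
    (x := g) (Subgroup.mem_centralizer_singleton_iff.2 (Commute.self_pow g _).eq)
  rw [cent_card h hvo] at h1
  exact Nat.dvd_antisymm h1 hd

/-- A character whose codegree part is prime to `l` vanishes at the `l`-singular elements. -/
theorem vanish {l : ℕ} (hl : l.Prime) (χ : IrrCharacter G) {r : ℕ}
    (hdr : charDegree (χ : G → ℂ) * r = Nat.card G) (hlr : ¬ l ∣ r) {g : G} (hg : l ∣ orderOf g) :
    (χ : G → ℂ) g = 0 := by
  haveI := Fact.mk hl
  obtain ⟨M, hM⟩ := exists_isPModular l hl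
  refine defectZero_vanish hM χ ?_ hg
  rw [← hdr, Nat.factorization_mul (charDeg_pos χ).ne' (fun h => hlr (by rw [h]; exact dvd_zero l)),
    Finsupp.add_apply, Nat.factorization_eq_zero_of_not_dvd hlr, add_zero]

/-- The class equation at an element of order `p`. -/
theorem class_u (h : SCP.Hyp p x) {g : G} (hg : orderOf g = p) (z : G) :
    (p : ℂ) * (Nat.card {k : G // IsConj g (z * (k * z * k⁻¹))} : ℂ) =
      (Nat.card G : ℂ) * ∑ χ : IrrCharacter G,
        conj ((χ : G → ℂ) g) * (χ : G → ℂ) z * (χ : G → ℂ) z / (χ : G → ℂ) 1 := by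
  rw [← Cube.class_formula g z, cent_card h hg]

/-- A product of two involutions of order `p` is inverted, so the index of the normalizer is even. -/
theorem even_of_real (h : SCP.Hyp p x) (hp2 : p ≠ 2) {g z k : G} (hg : orderOf g = p)
    (hz : orderOf z = 2) (hc : IsConj g (z * (k * z * k⁻¹))) : 2 ∣ SCP.e x := by
  obtain ⟨c, hcg⟩ := isConj_iff.1 hc
  set m := k * z * k⁻¹ with hm
  have hz2 := Invol.mul_self_of_orderOf_two hz
  have hm2 : m * m = 1 := by
    rw [hm, show k * z * k⁻¹ * (k * z * k⁻¹) = k * (z * z) * k⁻¹ by group, hz2]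
    group
  have hvo : orderOf (z * m) = p := by rw [← hcg, ← MulAut.conj_apply, MulEquiv.orderOf_eq, hg]
  obtain ⟨a, ha⟩ := SCP.exists_conj_mem h hvo
  have hne : a * (z * m) * a⁻¹ ≠ 1 := fun e1 => by
    rw [conj_eq_one_iff] at e1
    rw [e1, orderOf_one] at hvo
    exact (Fact.out : p.Prime).one_lt.ne hvo
  have hinv : (a * z * a⁻¹) * (a * (z * m) * a⁻¹) * (a * z * a⁻¹)⁻¹ = (a * (z * m) * a⁻¹)⁻¹ := by
    calc (a * z * a⁻¹) * (a * (z * m) * a⁻¹) * (a * z * a⁻¹)⁻¹
        = a * ((z * z) * m * z⁻¹) * a⁻¹ := by group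
      _ = a * (m⁻¹ * z⁻¹) * a⁻¹ := by
        rw [hz2, one_mul, inv_eq_of_mul_eq_one_right hm2]
      _ = _ := by group
  have hw : a * z * a⁻¹ ∈ SCP.N x :=
    SCP.mem_N_of_conj h ha hne (by rw [hinv]; exact inv_mem ha)
  have h1 := Subgroup.orderOf_dvd_natCard _ hw
  rw [SCP.card_N h, ← MulAut.conj_apply, MulEquiv.orderOf_eq, hz] at h1
  exact (Nat.prime_two.dvd_mul.1 h1).resolve_left fun h2 =>
    hp2 ((Nat.prime_dvd_prime_iff_eq Nat.prime_two Fact.out).1 h2).symm

/-- An inverting involution. -/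
theorem exists_inv (h : SCP.Hyp p x) (hp2 : p ≠ 2) (he : 2 ∣ SCP.e x) : Nonempty (OrdP.Self G p) := by
  obtain ⟨Q, hQ⟩ := SCP.exists_sylow h
  have hC : Subgroup.centralizer ((Q : Subgroup G) : Set G) = (Q : Subgroup G) := by
    rw [hQ]; exact SCP.cent_P h
  obtain ⟨S, -⟩ := OrdP.exists_self Q
    (show Nat.card (Q : Subgroup G) = p by rw [hQ]; exact SCP.card_P h) hp2
    (by rw [hC, hQ]; exact SCP.card_P h) (e := SCP.e x)
    (by rw [hC, hQ]; rfl) he
  exact ⟨S⟩

/-- The squares of the degrees. -/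
theorem deg_sq_lt {χ : IrrCharacter G} (hχ : χ ≠ trivialIrr G) :
    charDegree (χ : G → ℂ) * charDegree (χ : G → ℂ) < Nat.card G := by
  classical
  have h := regular_expansion (G := G) (1 : G)
  rw [if_pos rfl] at h
  simp only [charDeg_spec'] at h
  have h' : ∑ ξ : IrrCharacter G, charDegree (ξ : G → ℂ) * charDegree (ξ : G → ℂ) = Nat.card G := by
    exact_mod_cast h
  have h1 : charDegree (χ : G → ℂ) * charDegree (χ : G → ℂ) +
      charDegree (trivialIrr G : G → ℂ) * charDegree (trivialIrr G : G → ℂ) ≤ Nat.card G := by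
    rw [← h', ← Finset.sum_pair (f := fun ξ : IrrCharacter G =>
      charDegree (ξ : G → ℂ) * charDegree (ξ : G → ℂ)) hχ]
    exact Finset.sum_le_sum_of_subset (Finset.subset_univ _)
  have h2 := charDeg_pos (trivialIrr G)
  nlinarith

/-- The group order and the cofactor of a degree prime to `p`. -/
theorem cofactor (h : SCP.Hyp p x) {n : ℕ}
    (hcard : Nat.card G = p * (SCP.e x * (n * p + 1))) {χ : IrrCharacter G}
    (hχ : χ ≠ trivialIrr G) (hd : ¬ p ∣ charDegree (χ : G → ℂ)) :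
    ∃ d2 : ℕ, 0 < d2 ∧ charDegree (χ : G → ℂ) * d2 = SCP.e x * (n * p + 1) ∧
      charDegree (χ : G → ℂ) < d2 * p := by
  have h1 := charDeg_dvd χ
  rw [hcard] at h1
  obtain ⟨d2, hd2⟩ :=
    (Nat.Coprime.dvd_mul_left ((Fact.out : p.Prime).coprime_iff_not_dvd.2 hd).symm).1 h1
  have h2 := deg_sq_lt hχ
  rw [hcard, hd2, mul_left_comm] at h2
  have h3 := Nat.lt_of_mul_lt_mul_left h2
  refine ⟨d2, Nat.pos_of_ne_zero fun h0 => ?_, hd2.symm, by rwa [mul_comm d2]⟩
  rw [h0, mul_zero] at hd2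
  rw [hd2, mul_zero] at hcard
  exact Nat.card_pos.ne' hcard

/-- A non-trivial character with degree `≡ ±1`. -/
theorem deg_of_sign [IsSimpleGroup G] (hna : ¬ IsMulCommutative G) (h : SCP.Hyp p x) (hp5 : 5 ≤ p)
    {n t : ℕ} (hcard : Nat.card G = p * (SCP.e x * (n * p + 1))) (hsmall : 2 * n ≤ p + 2)
    (hn1 : 1 ≤ n) (he2 : 2 ≤ SCP.e x) (het : SCP.e x * t + 1 = p) {χ : IrrCharacter G} (hχ : χ ≠ trivialIrr G)
    {s : ℤ} (hs : s = 1 ∨ s = -1) (hd : (charDegree (χ : G → ℂ) : ℤ) ≡ s [ZMOD p]) :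
    (s = 1 ∧ charDegree (χ : G → ℂ) = n * p + 1) ∨
      (s = -1 ∧ charDegree (χ : G → ℂ) + 1 = p) := by
  obtain ⟨d, hd'⟩ : ∃ d, d = charDegree (χ : G → ℂ) := ⟨_, rfl⟩
  rw [← hd'] at hd ⊢
  have hres : (s = 1 ∧ d % p = 1) ∨ (s = -1 ∧ d % p = p - 1) := by
    rw [Int.ModEq] at hd
    rcases hs with hs | hs <;> rw [hs] at hd
    · left
      refine ⟨hs, ?_⟩
      rw [show (1 : ℤ) = ((1 : ℕ) : ℤ) from rfl, ← Int.natCast_mod, ← Int.natCast_mod,
        Nat.one_mod_eq_one.2 (by omega)] at hd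
      exact_mod_cast hd
    · right
      refine ⟨hs, ?_⟩
      rw [show (-1 : ℤ) % (p : ℤ) = ((p - 1 : ℕ) : ℤ) by
        rw [Int.neg_emod, if_neg (by intro h'; have := Int.le_of_dvd one_pos h'; omega),
          Int.emod_eq_of_lt (by norm_num) (by omega), Int.natAbs_natCast]
        omega, ← Int.natCast_mod] at hd
      exact_mod_cast hd
  have hpd : ¬ p ∣ d := fun h' => by
    have h0 := Nat.mod_eq_zero_of_dvd h'
    rcases hres with ⟨-, h''⟩ | ⟨-, h''⟩ <;> omega
  obtain ⟨d2, hd20, hmul, hlt⟩ := cofactor h hcard hχ (hd' ▸ hpd)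
  rw [← hd'] at hmul hlt
  have hd2 : 2 ≤ d := hd' ▸ OrdP.two_le_deg hna hχ
  have ht : 1 ≤ t := Nat.pos_of_ne_zero fun h0 => by rw [h0, mul_zero] at het; omega
  have hbig : d2 ≠ 1 := by
    intro h0
    rw [h0, one_mul] at hlt
    rw [h0, mul_one] at hmul
    have h3 : d % p = d := Nat.mod_eq_of_lt hlt
    have h4 : 2 * (n * p + 1) ≤ SCP.e x * (n * p + 1) := Nat.mul_le_mul_right _ he2
    have : 1 * p ≤ n * p := Nat.mul_le_mul_right _ hn1
    omega
  obtain ⟨h1, h2⟩ := deg_pm hp5 he2 ht het hsmall hd2 hd20 hmul hbig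
  exact hres.imp (fun h' => ⟨h'.1, h1 h'.2⟩) (fun h' => ⟨h'.1, h2 h'.2⟩)

/-- The centralizer of an involution, when no element order meets both parts. -/
theorem cent_inv_dvd (h : SCP.Hyp p x) (hp2 : p ≠ 2) {z : G} (hz : orderOf z = 2) {E M : ℕ}
    (hcard : Nat.card G = p * (E * M))
    (hmixed : ∀ g : G, ¬ p ∣ orderOf g → 2 ∣ orderOf g →
      ∀ r : ℕ, r.Prime → r ∣ M → r ∣ orderOf g → False) :
    Nat.card (Subgroup.centralizer ({z} : Set G)) ∣ E := by
  set C := Subgroup.centralizer ({z} : Set G) with hC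
  have hp : p.Prime := Fact.out
  have hz' : ¬ p ∣ orderOf z := by
    rw [hz]; exact fun hd => hp2 ((Nat.prime_dvd_prime_iff_eq hp Nat.prime_two).1 hd)
  have key : ∀ r : ℕ, r.Prime → r ∣ Nat.card C → r ∣ p * M → False := by
    intro r hr hrC hrM
    haveI := Fact.mk hr
    by_cases h2 : r = 2
    · subst h2
      rcases Nat.prime_two.dvd_mul.1 hrM with h3 | h3
      · exact hp2 ((Nat.prime_dvd_prime_iff_eq Nat.prime_two hp).1 h3).symm
      · exact hmixed z hz' (dvd_of_eq hz.symm) 2 hr h3 (dvd_of_eq hz.symm)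
    obtain ⟨y, hy⟩ := exists_prime_orderOf_dvd_card' (G := C) r hrC
    have hyo : orderOf (y : G) = r := by rw [Subgroup.orderOf_coe]; exact hy
    have ho : orderOf (z * (y : G)) = 2 * r := by
      rw [Commute.orderOf_mul_eq_mul_orderOf_of_coprime
        (Subgroup.mem_centralizer_singleton_iff.1 y.2).symm
        (by rw [hz, hyo]; exact (Nat.coprime_primes Nat.prime_two hr).2 (Ne.symm h2)), hz, hyo]
    have hpo : ¬ p ∣ orderOf (z * (y : G)) := fun hd => by
      have h1 := ord_eq_p h hd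
      rw [ho] at h1
      exact Nat.not_prime_mul (by norm_num) hr.ne_one (h1 ▸ hp)
    rcases hr.dvd_mul.1 hrM with h3 | h3
    · exact hpo (by rw [ho, ← (Nat.prime_dvd_prime_iff_eq hr hp).1 h3]; exact dvd_mul_left r 2)
    · exact hmixed _ hpo (ho ▸ dvd_mul_right 2 r) r hr h3 (ho ▸ dvd_mul_left r 2)
  have hd : Nat.card C ∣ p * M * E := by
    rw [show p * M * E = Nat.card G by rw [hcard]; ring]
    exact Subgroup.card_subgroup_dvd_card C
  exact (Nat.coprime_of_dvd fun r hr h1 h2 => key r hr h1 h2).dvd_of_dvd_mul_left hd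

end Cfsg.Agent.Block.Few
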