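import Mathlib
import Cfsg.Agent.Lib.Block.FewSylow.Basic

/-!
No simple group has a self-centralizing element of order `p`, a full normalizer (`e = p - 1`) and
between two and `(p + 2) / 2` times `p` Sylow subgroups.
-/

set_option autoImplicit false
set_option linter.unusedSectionVars false

namespace Cfsg.Agent.Block.Few

open scoped ComplexConjugate
open Cfsg Cfsg.Agent.Block Cfsg.Agent.Char

universe u

variable {G : Type u} [Group G] [Fintype G] [IsSimpleGroup G] {p : ℕ} [Fact p.Prime] {x : G}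

theorem full_false (hna : ¬ IsMulCommutative G) (h : SCP.Hyp p x) (hp5 : 5 ≤ p) {n : ℕ}
    (hn2 : 2 ≤ n) (hcard : Nat.card G = p * (SCP.e x * (n * p + 1))) (hsmall : 2 * n ≤ p + 2)
    (he : SCP.e x = p - 1) : False := by
  classical
  have hp : p.Prime := Fact.out
  have hp2 : p ≠ 2 := by omega
  set τ := trivialIrr G with hτ
  obtain ⟨X, Y, c, ε, H⟩ := SCP.exists_chars h
  have hY1 : Y.card = 1 := by
    have h1 := H.card_Y
    rw [he] at h1
    exact (mul_eq_right₀ (show p - 1 ≠ 0 by omega)).1 h1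
  obtain ⟨y, rfl⟩ := Finset.card_eq_one.1 hY1
  set s : IrrCharacter G → ℤ := fun χ => if χ ∈ X then -c χ else -ε with hs
  have hsX : ∀ χ ∈ X, s χ = -c χ := fun χ hχ => if_pos hχ
  have hyX : y ∉ X := fun hy => Finset.disjoint_left.1 H.disj hy (Finset.mem_singleton_self y)
  have hsy : s y = -ε := if_neg hyX
  set W := X ∪ {y} with hW
  have hsgn : ∀ χ ∈ W, (s χ = 1 ∨ s χ = -1) ∧ (charDegree (χ : G → ℂ) : ℤ) ≡ s χ [ZMOD p] ∧
      ∀ g : G, orderOf g = p → (χ : G → ℂ) g = (s χ : ℂ) := by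
    intro χ hχ
    rcases Finset.mem_union.1 hχ with h' | h'
    · rw [hsX χ h']
      refine ⟨?_, H.deg_X χ h', fun g hg => by rw [H.value χ h' g hg]; push_cast; rfl⟩
      rcases H.c_sign χ h' with h1 | h1 <;> simp [h1]
    · obtain rfl := Finset.mem_singleton.1 h'
      rw [hsy]
      refine ⟨?_, (H.deg_Y χ h').trans (Int.modEq_iff_dvd.2 ⟨-ε, ?_⟩),
        fun g hg => by rw [H.value_Y he χ h' g hg]; push_cast; rfl⟩
      · rcases H.ε_sign with h1 | h1 <;> simp [h1]
      · rw [he]; push_cast [Nat.cast_sub hp.one_le]; ring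
  have hrelW : ∀ g : G, ¬ p ∣ orderOf g → ∑ χ ∈ W, (s χ : ℂ) * (χ : G → ℂ) g = 0 := by
    intro g hg
    rw [hW, Finset.sum_union H.disj, Finset.sum_singleton, hsy,
      Finset.sum_congr rfl (g := fun χ : IrrCharacter G => -((c χ : ℂ) * (χ : G → ℂ) g))
        (fun χ hχ => by rw [hsX χ hχ]; push_cast; ring), Finset.sum_neg_distrib]
    push_cast
    linear_combination -(H.regular y (Finset.mem_singleton_self y) g hg)
  have hτW : τ ∈ W := H.trivial_mem
  have hxp : orderOf x = p := h.ord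
  have hsτ : s τ = 1 := by
    have := (hsgn τ hτW).2.2 x hxp
    simp only [hτ, trivialIrr] at this
    exact_mod_cast this.symm
  set N := n * p + 1 with hN
  have hN1 : 1 * p < N := by
    have := Nat.mul_le_mul_right p hn2
    omega
  set B := (W.erase τ).filter fun χ => s χ = -1 with hB
  set C := (W.erase τ).filter fun χ => ¬ s χ = -1 with hC
  have hdeg : ∀ χ ∈ W.erase τ, (s χ = 1 ∧ charDegree (χ : G → ℂ) = N) ∨
      (s χ = -1 ∧ charDegree (χ : G → ℂ) + 1 = p) := fun χ hχ => by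
    obtain ⟨h1, h2⟩ := Finset.mem_erase.1 hχ
    exact deg_of_sign hna h hp5 hcard hsmall (by omega) (by omega) (t := 1) (by omega) h1
      (hsgn χ h2).1 (hsgn χ h2).2.1
  have hdB : ∀ χ ∈ B, s χ = -1 ∧ charDegree (χ : G → ℂ) = p - 1 := fun χ hχ => by
    obtain ⟨h1, h2⟩ := Finset.mem_filter.1 hχ
    rcases hdeg χ h1 with ⟨h3, -⟩ | ⟨-, h3⟩
    · rw [h2] at h3; norm_num at h3
    · exact ⟨h2, by omega⟩
  have hdC : ∀ χ ∈ C, s χ = 1 ∧ charDegree (χ : G → ℂ) = N := fun χ hχ => by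
    obtain ⟨h1, h2⟩ := Finset.mem_filter.1 hχ
    exact (hdeg χ h1).resolve_right fun h' => h2 h'.1
  have hrel : ∀ g : G, ¬ p ∣ orderOf g →
      1 + ∑ χ ∈ C, (χ : G → ℂ) g - ∑ χ ∈ B, (χ : G → ℂ) g = 0 := by
    intro g hg
    have h1 := hrelW g hg
    rw [← Finset.add_sum_erase _ _ hτW, hsτ,
      ← Finset.sum_filter_add_sum_filter_not (W.erase τ) (fun χ => s χ = -1), ← hB, ← hC,
      Finset.sum_congr rfl (g := fun χ : IrrCharacter G => -(χ : G → ℂ) g)
        (fun χ (hχ : χ ∈ B) => by rw [(hdB χ hχ).1]; push_cast; ring),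
      Finset.sum_congr rfl (g := fun χ : IrrCharacter G => (χ : G → ℂ) g)
        (fun χ (hχ : χ ∈ C) => by rw [(hdC χ hχ).1]; push_cast; ring), Finset.sum_neg_distrib] at h1
    simp only [hτ, trivialIrr, mul_one] at h1
    push_cast at h1
    linear_combination h1
  have hBC : B.card + C.card + 1 = p := by
    rw [Finset.card_filter_add_card_filter_not, Finset.card_erase_of_mem hτW, hW,
      Finset.card_union_of_disjoint H.disj, H.card_X, Finset.card_singleton, he]
    omega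
  have hrel1 : (1 : ℤ) + C.card * N - B.card * ((p : ℤ) - 1) = 0 := by
    have h1 := hrel 1 (by rw [orderOf_one]; exact hp.not_dvd_one)
    rw [Finset.sum_congr rfl (g := fun _ => ((N : ℕ) : ℂ)) (fun χ (hχ : χ ∈ C) => by
        rw [charDeg_spec', (hdC χ hχ).2]),
      Finset.sum_congr rfl (g := fun _ => ((p - 1 : ℕ) : ℂ)) (fun χ (hχ : χ ∈ B) => by
        rw [charDeg_spec', (hdB χ hχ).2]), Finset.sum_const, Finset.sum_const, nsmul_eq_mul,
      nsmul_eq_mul, Nat.cast_sub hp.one_le, Nat.cast_one] at h1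
    apply Int.cast_injective (α := ℂ)
    push_cast
    linear_combination h1
  have hCn : C.card * (n + 1) + 2 = p := by
    have h1 : (B.card : ℤ) + C.card + 1 = p := by exact_mod_cast hBC
    have h2 : (p : ℤ) * ((C.card : ℤ) * ((n : ℤ) + 1) + 2 - p) = 0 := by
      rw [hN] at hrel1
      push_cast at hrel1
      linear_combination hrel1 + ((p : ℤ) - 1) * h1
    have h3 := (mul_eq_zero.1 h2).resolve_left (by exact_mod_cast hp.ne_zero)
    have h4 : ((C.card * (n + 1) + 2 : ℕ) : ℤ) = (p : ℤ) := by push_cast; linarith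
    exact_mod_cast h4
  have hcop : Nat.Coprime (p - 1) N := by
    have h1 : Nat.Coprime (n + 1) (p - 1) := by
      rw [show p - 1 = 1 + C.card * (n + 1) by omega, Nat.coprime_comm,
        Nat.coprime_add_mul_right_left]
      exact Nat.coprime_one_left _
    rw [Nat.coprime_comm, hN]
    have h2 : n * p + 1 = n + 1 + n * (p - 1) := by
      have := Nat.mul_sub_one n p
      have h3 : n * 1 ≤ n * p := Nat.mul_le_mul_left n hp.one_le
      omega
    rw [h2, Nat.coprime_add_mul_right_left]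
    exact h1
  have hcard' : Nat.card G = p * ((p - 1) * N) := by rw [hcard, he]
  have hvB : ∀ {l : ℕ}, l.Prime → l ∣ p - 1 → ∀ χ ∈ B, ∀ g : G, l ∣ orderOf g →
      (χ : G → ℂ) g = 0 := by
    intro l hl hld χ hχ g hg
    refine vanish hl χ (r := p * N) (by rw [(hdB χ hχ).2, hcard']; ring) (fun h' => ?_) hg
    rcases hl.dvd_mul.1 h' with h'' | h''
    · rw [(Nat.prime_dvd_prime_iff_eq hl hp).1 h''] at hld
      have := Nat.le_of_dvd (by omega) hld
      omega
    · exact hl.ne_one (Nat.eq_one_of_dvd_coprimes hcop hld h'')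
  have hvC : ∀ {l : ℕ}, l.Prime → l ∣ N → ∀ χ ∈ C, ∀ g : G, l ∣ orderOf g →
      (χ : G → ℂ) g = 0 := by
    intro l hl hld χ hχ g hg
    refine vanish hl χ (r := p * (p - 1)) (by rw [(hdC χ hχ).2, hcard']; ring) (fun h' => ?_) hg
    rcases hl.dvd_mul.1 h' with h'' | h''
    · rw [(Nat.prime_dvd_prime_iff_eq hl hp).1 h'', hN] at hld
      exact hp.not_dvd_one ((Nat.dvd_add_right (dvd_mul_left p n)).1 hld)
    · exact hl.ne_one (Nat.eq_one_of_dvd_coprimes hcop h'' hld)
  have h2p : 2 ∣ p - 1 := (Nat.Prime.even_sub_one hp hp2).two_dvd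
  obtain ⟨S⟩ := exists_inv h hp2 (he ▸ h2p)
  have hCdvd : Nat.card (Subgroup.centralizer ({S.t} : Set G)) ∣ p - 1 :=
    cent_inv_dvd h hp2 S.ht hcard' fun g hg h2g r hr hrN hrg => by
      have h1 := hrel g hg
      rw [Finset.sum_eq_zero fun χ hχ => hvC hr hrN χ hχ g hrg,
        Finset.sum_eq_zero fun χ hχ => hvB Nat.prime_two h2p χ hχ g h2g] at h1
      norm_num at h1
  choose a ha ha4 using fun χ : IrrCharacter G =>
    OrdP.involution_value hna χ (x := S.t) (by rw [← S.ht]; exact pow_orderOf_eq_one _)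
  have hf := class_u h S.hu S.t
  rw [S.count hp2, ← Finset.sum_sdiff (Finset.subset_univ W),
    Finset.sum_eq_zero (s := Finset.univ \ W) (fun χ hχ => by
      rw [H.vanish χ (Finset.mem_sdiff.1 hχ).2 S.u S.hu, map_zero, zero_mul, zero_mul, zero_div]),
    zero_add, ← Finset.add_sum_erase _ _ hτW,
    ← Finset.sum_filter_add_sum_filter_not (W.erase τ) (fun χ => s χ = -1), ← hB, ← hC,
    Finset.sum_eq_zero (s := B) (fun χ hχ => by
      rw [hvB Nat.prime_two h2p χ hχ S.t (dvd_of_eq S.ht.symm), mul_zero, zero_div]),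
    Finset.sum_congr rfl (g := fun χ : IrrCharacter G => (a χ : ℂ) ^ 2 / (N : ℂ))
      (fun χ (hχ : χ ∈ C) => by
        obtain ⟨h1, h2⟩ := Finset.mem_filter.1 hχ
        rw [(hsgn χ (Finset.mem_of_mem_erase h1)).2.2 S.u S.hu, (hdC χ hχ).1, ha, charDeg_spec',
          (hdC χ hχ).2]
        push_cast
        rw [map_one]
        ring),
    ← Finset.sum_div, hcard'] at hf
  simp only [hτ, trivialIrr, map_one, mul_one, div_one, zero_add] at hf
  set A : ℤ := ∑ χ ∈ C, a χ ^ 2 with hA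
  set k := Nat.card (Subgroup.centralizer ({S.t} : Set G)) with hk
  have hkey : (k : ℤ) ^ 2 = ((p - 1 : ℕ) : ℤ) * ((N : ℤ) + A) := by
    apply Int.cast_injective (α := ℂ)
    refine mul_left_cancel₀ (Nat.cast_ne_zero.2 hp.ne_zero : (p : ℂ) ≠ 0) ?_
    have hN0 : (N : ℂ) ≠ 0 := Nat.cast_ne_zero.2 (by omega)
    rw [hA]
    push_cast at hf ⊢
    rw [hf]
    field_simp
  have hkle : (k : ℤ) ≤ ((p - 1 : ℕ) : ℤ) := by exact_mod_cast Nat.le_of_dvd (by omega) hCdvd
  have hA0 : 0 ≤ A := Finset.sum_nonneg fun χ _ => sq_nonneg _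
  have hNp : ((p - 1 : ℕ) : ℤ) < N := by exact_mod_cast (show p - 1 < N by omega)
  have hk0 : (0 : ℤ) ≤ k := Nat.cast_nonneg _
  have hp1 : (0 : ℤ) < ((p - 1 : ℕ) : ℤ) := by exact_mod_cast (show 0 < p - 1 by omega)
  nlinarith

end Cfsg.Agent.Block.Few
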