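import Mathlib
import Cfsg.Agent.Lib.Block.FewSylow.Basic

/-!
A simple group with a self-centralizing element of order `p`, few Sylow subgroups and `e < p - 1`:
the characters nonzero at the elements of order `p`, with their degrees.
-/

set_option autoImplicit false
set_option linter.unusedSectionVars false

namespace Cfsg.Agent.Block.Few

open scoped ComplexConjugate
open Cfsg Cfsg.Agent.Block Cfsg.Agent.Char

universe u

/-- The characters that do not vanish at the elements of order `p`. -/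
structure Parts (G : Type u) [Group G] [Fintype G] (p e t n : ℕ) where
  B : Finset (IrrCharacter G)
  C : Finset (IrrCharacter G)
  Y : Finset (IrrCharacter G)
  ε : ℤ
  dy : ℕ
  dy_pos : 0 < dy
  hε : ε = 1 ∨ ε = -1
  hBC : B.card + C.card + 1 = e
  hY : Y.card = t
  dB : ∀ χ ∈ B, charDegree (χ : G → ℂ) = p - 1
  dC : ∀ χ ∈ C, charDegree (χ : G → ℂ) = n * p + 1
  dY : ∀ θ ∈ Y, charDegree (θ : G → ℂ) = dy
  hdy : (dy : ℤ) ≡ ε * (e : ℤ) [ZMOD p]
  hdeg : ε * (dy : ℤ) = 1 + (C.card : ℤ) * ((n : ℤ) * p + 1) - (B.card : ℤ) * ((p : ℤ) - 1)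
  nontriv : ∀ χ : IrrCharacter G, χ ∈ B ∨ χ ∈ C ∨ χ ∈ Y → χ ≠ trivialIrr G
  vC : ∀ χ ∈ C, ∀ g : G, orderOf g = p → (χ : G → ℂ) g = 1
  rel : ∀ θ ∈ Y, ∀ g : G, ¬ p ∣ orderOf g →
    (ε : ℂ) * (θ : G → ℂ) g = 1 + ∑ χ ∈ C, (χ : G → ℂ) g - ∑ χ ∈ B, (χ : G → ℂ) g
  at_u : ∀ g : G, orderOf g = p → ∀ F : IrrCharacter G → ℂ,
    ∑ χ : IrrCharacter G, conj ((χ : G → ℂ) g) * F χ =
      F (trivialIrr G) + ∑ χ ∈ C, F χ - ∑ χ ∈ B, F χ + ∑ θ ∈ Y, conj ((θ : G → ℂ) g) * F θ

variable {G : Type u} [Group G] [Fintype G] [IsSimpleGroup G] {p : ℕ} [Fact p.Prime] {x : G}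

theorem exists_parts (hna : ¬ IsMulCommutative G) (h : SCP.Hyp p x) (hp5 : 5 ≤ p) {n t : ℕ}
    (hn1 : 1 ≤ n) (hcard : Nat.card G = p * (SCP.e x * (n * p + 1))) (hsmall : 2 * n ≤ p + 2)
    (he2 : 2 ≤ SCP.e x) (het : SCP.e x * t + 1 = p) (ht2 : 2 ≤ t) :
    Nonempty (Parts G p (SCP.e x) t n) := by
  classical
  have hp : p.Prime := Fact.out
  set τ := trivialIrr G with hτ
  set e := SCP.e x with he
  obtain ⟨X, Y, c, ε, H⟩ := SCP.exists_chars h
  have h2e : 2 * e + 1 ≤ p := by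
    have := Nat.mul_le_mul_left e ht2
    omega
  have hYc : Y.card = t := by
    have h1 := H.card_Y
    rw [← he, show p - 1 = e * t by omega, mul_comm e t] at h1
    exact Nat.eq_of_mul_eq_mul_right (by omega) h1
  have hτd : charDegree (τ : G → ℂ) = 1 := charDeg_trivial
  have hτY : τ ∉ Y := by
    intro hy
    have h1 := H.deg_Y τ hy
    rw [hτd, Nat.cast_one, Int.modEq_iff_dvd, ← he] at h1
    rcases H.ε_sign with hε | hε <;> rw [hε] at h1
    · rw [one_mul] at h1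
      have := Int.le_of_dvd (by omega) h1
      omega
    · have h2 : (p : ℤ) ∣ (e : ℤ) + 1 := by
        have h3 := dvd_neg.2 h1
        rwa [show -(-1 * (e : ℤ) - 1) = (e : ℤ) + 1 by ring] at h3
      have := Int.le_of_dvd (by omega) h2
      omega
  have hτX : τ ∈ X := (Finset.mem_union.1 H.trivial_mem).resolve_right hτY
  have hcτ : c τ = -1 := by
    have := H.value τ hτX x h.ord
    simp only [hτ, trivialIrr] at this
    have h1 : ((1 : ℤ) : ℂ) = ((-c τ : ℤ) : ℂ) := by push_cast; exact this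
    have h2 : (1 : ℤ) = -c τ := by exact_mod_cast h1
    linarith
  set B := (X.erase τ).filter fun χ => c χ = 1 with hB
  set C := (X.erase τ).filter fun χ => ¬ c χ = 1 with hC
  have hdeg : ∀ χ ∈ X.erase τ, (-c χ = 1 ∧ charDegree (χ : G → ℂ) = n * p + 1) ∨
      (-c χ = -1 ∧ charDegree (χ : G → ℂ) + 1 = p) := fun χ hχ => by
    obtain ⟨h1, h2⟩ := Finset.mem_erase.1 hχ
    refine deg_of_sign hna h hp5 hcard hsmall hn1 he2 het h1 ?_ (H.deg_X χ h2)
    rcases H.c_sign χ h2 with h3 | h3 <;> simp [h3]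
  have hdB : ∀ χ ∈ B, c χ = 1 ∧ charDegree (χ : G → ℂ) = p - 1 := fun χ hχ => by
    obtain ⟨h1, h2⟩ := Finset.mem_filter.1 hχ
    rcases hdeg χ h1 with ⟨h3, -⟩ | ⟨-, h3⟩
    · rw [h2] at h3; norm_num at h3
    · exact ⟨h2, by omega⟩
  have hdC : ∀ χ ∈ C, c χ = -1 ∧ charDegree (χ : G → ℂ) = n * p + 1 := fun χ hχ => by
    obtain ⟨h1, h2⟩ := Finset.mem_filter.1 hχ
    rcases hdeg χ h1 with ⟨h3, h4⟩ | ⟨h3, -⟩
    · exact ⟨by linarith, h4⟩
    · exact absurd (by linarith : c χ = 1) h2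
  have hrel : ∀ θ ∈ Y, ∀ g : G, ¬ p ∣ orderOf g →
      (ε : ℂ) * (θ : G → ℂ) g = 1 + ∑ χ ∈ C, (χ : G → ℂ) g - ∑ χ ∈ B, (χ : G → ℂ) g := by
    intro θ hθ g hg
    have h1 := H.regular θ hθ g hg
    rw [← Finset.add_sum_erase _ _ hτX, hcτ,
      ← Finset.sum_filter_add_sum_filter_not (X.erase τ) (fun χ => c χ = 1), ← hB, ← hC,
      Finset.sum_congr rfl (g := fun χ : IrrCharacter G => (χ : G → ℂ) g)
        (fun χ (hχ : χ ∈ B) => by rw [(hdB χ hχ).1]; push_cast; ring),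
      Finset.sum_congr rfl (g := fun χ : IrrCharacter G => -(χ : G → ℂ) g)
        (fun χ (hχ : χ ∈ C) => by rw [(hdC χ hχ).1]; push_cast; ring), Finset.sum_neg_distrib] at h1
    simp only [hτ, trivialIrr] at h1
    push_cast at h1
    linear_combination h1
  obtain ⟨y, hy⟩ := Finset.card_pos.1 (show 0 < Y.card by omega)
  have h1reg : ¬ p ∣ orderOf (1 : G) := by rw [orderOf_one]; exact hp.not_dvd_one
  have hdegy : ε * (charDegree (y : G → ℂ) : ℤ) =
      1 + (C.card : ℤ) * ((n : ℤ) * p + 1) - (B.card : ℤ) * ((p : ℤ) - 1) := by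
    have h1 := hrel y hy 1 h1reg
    rw [Finset.sum_congr rfl (g := fun _ => ((n * p + 1 : ℕ) : ℂ)) (fun χ (hχ : χ ∈ C) => by
        rw [charDeg_spec', (hdC χ hχ).2]),
      Finset.sum_congr rfl (g := fun _ => ((p - 1 : ℕ) : ℂ)) (fun χ (hχ : χ ∈ B) => by
        rw [charDeg_spec', (hdB χ hχ).2]), Finset.sum_const, Finset.sum_const, nsmul_eq_mul,
      nsmul_eq_mul, charDeg_spec', Nat.cast_sub hp.one_le, Nat.cast_one] at h1
    apply Int.cast_injective (α := ℂ)
    push_cast at h1 ⊢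
    linear_combination h1
  refine ⟨{
    B := B, C := C, Y := Y, ε := ε, dy := charDegree (y : G → ℂ)
    hε := H.ε_sign
    dy_pos := charDeg_pos y
    hBC := ?_
    hY := hYc
    dB := fun χ hχ => (hdB χ hχ).2
    dC := fun χ hχ => (hdC χ hχ).2
    dY := fun θ hθ => ?_
    hdy := H.deg_Y y hy
    hdeg := hdegy
    nontriv := fun χ hχ h' => ?_
    vC := fun χ hχ g hg => ?_
    rel := hrel
    at_u := fun g hg F => ?_ }⟩
  · rw [Finset.card_filter_add_card_filter_not, Finset.card_erase_of_mem hτX, H.card_X, ← he]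
    omega
  · have h1 := hrel θ hθ 1 h1reg
    rw [← hrel y hy 1 h1reg] at h1
    have h2 : (θ : G → ℂ) 1 = (y : G → ℂ) 1 :=
      mul_left_cancel₀ (Int.cast_ne_zero.2 (by rcases H.ε_sign with h3 | h3 <;> omega)) h1
    rw [charDeg_spec', charDeg_spec'] at h2
    exact_mod_cast h2
  · rcases hχ with h1 | h1 | h1
    · exact Finset.ne_of_mem_erase (Finset.mem_filter.1 h1).1 h'
    · exact Finset.ne_of_mem_erase (Finset.mem_filter.1 h1).1 h'
    · exact hτY (by rw [hτ, ← h']; exact h1)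
  · obtain ⟨h1, -⟩ := Finset.mem_filter.1 hχ
    rw [H.value χ (Finset.mem_of_mem_erase h1) g hg, (hdC χ hχ).1]
    norm_num
  · rw [← Finset.sum_sdiff (Finset.subset_univ (X ∪ Y)),
      Finset.sum_eq_zero (s := Finset.univ \ (X ∪ Y)) (fun χ hχ => by
        rw [H.vanish χ (Finset.mem_sdiff.1 hχ).2 g hg, map_zero, zero_mul]),
      zero_add, Finset.sum_union H.disj, ← Finset.add_sum_erase _ _ hτX,
      ← Finset.sum_filter_add_sum_filter_not (X.erase τ) (fun χ => c χ = 1), ← hB, ← hC,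
      Finset.sum_congr rfl (g := fun χ : IrrCharacter G => -F χ) (fun χ (hχ : χ ∈ B) => by
        rw [H.value χ (Finset.mem_of_mem_erase (Finset.mem_filter.1 hχ).1) g hg, (hdB χ hχ).1]
        simp),
      Finset.sum_congr rfl (g := fun χ : IrrCharacter G => F χ) (fun χ (hχ : χ ∈ C) => by
        rw [H.value χ (Finset.mem_of_mem_erase (Finset.mem_filter.1 hχ).1) g hg, (hdC χ hχ).1]
        simp), Finset.sum_neg_distrib]
    simp only [hτ, trivialIrr, map_one, one_mul]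
    ring

namespace Parts

variable {e t n : ℕ} (D : Parts G p e t n)

/-- The sum of the exceptional characters at an element of order `p`. -/
theorem sum_Y {g : G} (hg : orderOf g = p) :
    ∑ θ ∈ D.Y, conj ((θ : G → ℂ) g) = -(D.ε : ℂ) := by
  classical
  have hp : p.Prime := Fact.out
  have hg1 : g ≠ 1 := fun e1 => by rw [e1, orderOf_one] at hg; exact hp.one_lt.ne hg
  have h := D.at_u g hg fun χ => (χ : G → ℂ) 1
  have h0 : ∑ χ : IrrCharacter G, conj ((χ : G → ℂ) g) * (χ : G → ℂ) 1 = 0 := by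
    have h1 := congrArg conj (regular_expansion (G := G) g)
    rw [if_neg hg1, map_sum, map_zero] at h1
    rw [← h1]
    refine Finset.sum_congr rfl fun χ _ => ?_
    rw [map_mul, charDeg_spec', map_natCast, mul_comm]
  rw [h0, Finset.sum_congr rfl (g := fun _ => ((n * p + 1 : ℕ) : ℂ)) (fun χ (hχ : χ ∈ D.C) => by
      rw [charDeg_spec', D.dC χ hχ]),
    Finset.sum_congr rfl (g := fun _ => ((p - 1 : ℕ) : ℂ)) (fun χ (hχ : χ ∈ D.B) => by
      rw [charDeg_spec', D.dB χ hχ]),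
    Finset.sum_congr rfl (g := fun θ : IrrCharacter G => conj ((θ : G → ℂ) g) * (D.dy : ℂ))
      (fun θ (hθ : θ ∈ D.Y) => by rw [charDeg_spec', D.dY θ hθ]),
    Finset.sum_const, Finset.sum_const, nsmul_eq_mul, nsmul_eq_mul, ← Finset.sum_mul,
    Nat.cast_sub hp.one_le, Nat.cast_one] at h
  simp only [trivialIrr] at h
  have hd : (D.ε : ℂ) * (D.dy : ℂ) =
      1 + (D.C.card : ℂ) * ((n : ℂ) * p + 1) - (D.B.card : ℂ) * ((p : ℂ) - 1) := by
    exact_mod_cast D.hdeg
  push_cast at h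
  have hdy0 : (D.dy : ℂ) ≠ 0 := Nat.cast_ne_zero.2 D.dy_pos.ne'
  refine mul_right_cancel₀ hdy0 ?_
  linear_combination -h + hd

end Parts

end Cfsg.Agent.Block.Few
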