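import Mathlib
import Cfsg.Agent.Lib.Block.FewSylow.Parts
import Cfsg.Agent.Lib.Block.SmallPSL.Count
import Cfsg.Agent.Lib.Block.SmallPSL.Facts
import Cfsg.Agent.S4508

/-!
The exceptional characters of degree `e = (p - 1) / 2` occur only with `p + 1` Sylow subgroups: the
complement of order `e` in the Sylow normalizer would have a normalizer of impossible order.
-/

set_option autoImplicit false
set_option linter.unusedSectionVars false

namespace Cfsg.Agent.Block.Few

open scoped ComplexConjugate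
open Cfsg Cfsg.Agent.Block Cfsg.Agent.Char

universe u

variable {G : Type u} [Group G] [Fintype G] [IsSimpleGroup G] {p : ℕ} [Fact p.Prime] {x : G}

theorem half_false (h : SCP.Hyp p x) (hp5 : 5 ≤ p) {e n k : ℕ} (he : SCP.e x = e) (hn2 : 2 ≤ n)
    (hcard : Nat.card G = p * (e * (n * p + 1))) (hsmall : 2 * n ≤ p + 2)
    (he2 : 2 ≤ e) (het : e * 2 + 1 = p) (D : Parts G p e 2 n)
    (hε : D.ε = 1) (hdy : D.dy = e) (hnk : n + 1 = k * 2)
    (hB : D.B.card = D.C.card * n) : False := by
  classical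
  have hp : p.Prime := Fact.out
  set N := n * p + 1 with hN
  set b := D.C.card with hb
  have heb : 2 * (k * b) + 1 = e := by
    have h1 := D.hBC
    rw [hB, ← hb] at h1
    calc 2 * (k * b) + 1 = b * (n + 1) + 1 := by rw [hnk]; ring
      _ = e := by rw [← h1]; ring
  set q := k * p - e with hq
  have hk2 : 2 ≤ k := by omega
  have hqe : q + e = k * p := by
    have := Nat.mul_le_mul_right p hk2
    omega
  have hNq : N = 2 * q := by
    have h1 : (n + 1) * p = k * p * 2 := by rw [hnk]; ring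
    rw [Nat.add_mul, one_mul] at h1
    omega
  have hep : Nat.Coprime e p :=
    (hp.coprime_iff_not_dvd.2 fun hd => by have := Nat.le_of_dvd (by omega) hd; omega).symm
  have he2k : Nat.Coprime e (2 * k) := by
    rw [← heb, ← mul_assoc, add_comm, mul_comm (2 * k) b, Nat.coprime_add_mul_right_left]
    exact Nat.coprime_one_left _
  have heN : Nat.Coprime e N := by
    have h1 : Nat.Coprime e (2 * k * p) := Nat.Coprime.mul_right he2k hep
    rw [show 2 * k * p = N + 2 * e by rw [hNq, mul_assoc, ← hqe]; ring,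
      Nat.coprime_add_mul_right_right] at h1
    exact h1
  have heq : Nat.Coprime e q := Nat.Coprime.coprime_dvd_right (hNq ▸ dvd_mul_left q 2) heN
  have hNp : ∀ {l : ℕ}, l.Prime → l ∣ N → l ≠ p := fun {l} hl hld e' => by
    rw [e', hN] at hld
    exact hp.not_dvd_one ((Nat.dvd_add_right (dvd_mul_left p n)).1 hld)
  have hvB : ∀ {l : ℕ}, l.Prime → l ∣ e → ∀ χ ∈ D.B, ∀ g : G, l ∣ orderOf g →
      (χ : G → ℂ) g = 0 := by
    intro l hl hld χ hχ g hg
    refine vanish hl χ (r := p * q) ?_ (fun h' => ?_) hg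
    · rw [D.dB χ hχ, hcard, hNq, show p - 1 = e * 2 by omega]; ring
    · exact hl.ne_one (Nat.eq_one_of_dvd_coprimes (Nat.Coprime.mul_right hep heq) hld h')
  have hvY : ∀ {l : ℕ}, l.Prime → l ∣ e → ∀ χ ∈ D.Y, ∀ g : G, l ∣ orderOf g →
      (χ : G → ℂ) g = 0 := by
    intro l hl hld χ hχ g hg
    refine vanish hl χ (r := p * N) ?_ (fun h' => ?_) hg
    · rw [D.dY χ hχ, hdy, hcard]; ring
    · exact hl.ne_one (Nat.eq_one_of_dvd_coprimes (Nat.Coprime.mul_right hep heN) hld h')
  have hvC : ∀ {l : ℕ}, l.Prime → l ∣ N → ∀ χ ∈ D.C, ∀ g : G, l ∣ orderOf g →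
      (χ : G → ℂ) g = 0 := by
    intro l hl hld χ hχ g hg
    refine vanish hl χ (r := p * e) ?_ (fun h' => ?_) hg
    · rw [D.dC χ hχ, hcard]; ring
    · rcases hl.dvd_mul.1 h' with h1 | h1
      · exact hNp hl hld ((Nat.prime_dvd_prime_iff_eq hl hp).1 h1)
      · exact hl.ne_one (Nat.eq_one_of_dvd_coprimes heN h1 hld)
  obtain ⟨θ, hθ⟩ := Finset.card_pos.1 (show 0 < D.Y.card by rw [D.hY]; omega)
  have hmixed : ∀ g : G, ¬ p ∣ orderOf g → ∀ l r : ℕ, l.Prime → l ∣ e → l ∣ orderOf g →
      r.Prime → r ∣ N → r ∣ orderOf g → False := by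
    intro g hg l r hl hle hlg hr hrN hrg
    have h1 := D.rel θ hθ g hg
    rw [hvY hl hle θ hθ g hlg, Finset.sum_eq_zero fun χ hχ => hvC hr hrN χ hχ g hrg,
      Finset.sum_eq_zero fun χ hχ => hvB hl hle χ hχ g hlg] at h1
    norm_num at h1
  have hpe : ∀ {g : G}, g ≠ 1 → orderOf g ∣ e → ¬ p ∣ orderOf g := fun {g} _ hge hd => by
    have := Nat.le_of_dvd (by omega) (hd.trans hge)
    omega
  -- centralizers on the `e`-side
  have hcent : ∀ g : G, g ≠ 1 → orderOf g ∣ e →
      Nat.card (Subgroup.centralizer ({g} : Set G)) ∣ e := by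
    intro g hg hge
    set C := Subgroup.centralizer ({g} : Set G) with hC
    set l := (orderOf g).minFac
    have hl : l.Prime := Nat.minFac_prime fun h' => hg (orderOf_eq_one_iff.1 h')
    have hlg : l ∣ orderOf g := Nat.minFac_dvd _
    have key : ∀ r : ℕ, r.Prime → r ∣ Nat.card C → r ∣ p * N → False := by
      intro r hr hrC hrM
      haveI := Fact.mk hr
      have hrl : r ≠ l := fun e' => by
        subst e'
        exact hr.ne_one (Nat.eq_one_of_dvd_coprimes (Nat.Coprime.mul_right hep heN)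
          (hlg.trans hge) hrM)
      obtain ⟨y, hy⟩ := exists_prime_orderOf_dvd_card' (G := C) r hrC
      have hyo : orderOf (y : G) = r := by rw [Subgroup.orderOf_coe]; exact hy
      have hlo : orderOf (g ^ (orderOf g / l)) = l := orderOf_pow_orderOf_div (orderOf_pos g).ne' hlg
      have ho : orderOf (g ^ (orderOf g / l) * (y : G)) = l * r := by
        rw [Commute.orderOf_mul_eq_mul_orderOf_of_coprime
          (Commute.pow_left (Subgroup.mem_centralizer_singleton_iff.1 y.2).symm _)
          (by rw [hlo, hyo]; exact (Nat.coprime_primes hl hr).2 (Ne.symm hrl)), hlo, hyo]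
      have hpo : ¬ p ∣ orderOf (g ^ (orderOf g / l) * (y : G)) := fun hd => by
        have h1 := ord_eq_p h hd
        rw [ho] at h1
        exact Nat.not_prime_mul hl.ne_one hr.ne_one (h1 ▸ hp)
      rcases hr.dvd_mul.1 hrM with h3 | h3
      · exact hpo (by rw [ho, ← (Nat.prime_dvd_prime_iff_eq hr hp).1 h3]; exact dvd_mul_left r l)
      · exact hmixed _ hpo l r hl (hlg.trans hge) (ho ▸ dvd_mul_right l r) hr h3
          (ho ▸ dvd_mul_left r l)
    have hd : Nat.card C ∣ p * N * e := by
      rw [show p * N * e = Nat.card G by rw [hcard]; ring]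
      exact Subgroup.card_subgroup_dvd_card C
    exact (Nat.coprime_of_dvd fun r hr h1 h2 => key r hr h1 h2).dvd_of_dvd_mul_left hd
  -- the complement in the Sylow normalizer
  obtain ⟨σ, -, hσo, -⟩ := Cfsg.Agent.S4508.exists_generator h (by omega)
  rw [he] at hσo
  set E := Subgroup.zpowers σ with hE
  have hEc : Nat.card E = e := by rw [Nat.card_zpowers, hσo]
  have hEle : ∀ a ∈ E, orderOf a ∣ e := fun a ha => hEc ▸ Subgroup.orderOf_dvd_natCard _ ha
  have hEC : ∀ a ∈ E, a ≠ 1 → Subgroup.centralizer ({a} : Set G) = E := by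
    intro a ha ha1
    refine (Subgroup.eq_of_le_of_card_ge (fun y hy => ?_) ?_).symm
    · rw [Subgroup.mem_centralizer_singleton_iff]
      obtain ⟨i, rfl⟩ := Subgroup.mem_zpowers_iff.1 hy
      obtain ⟨j, rfl⟩ := Subgroup.mem_zpowers_iff.1 ha
      exact (((Commute.refl σ).zpow_left i).zpow_right j).eq
    · rw [hEc]
      exact Nat.le_of_dvd (by omega) (hcent a ha1 (hEle a ha))
  have hiff : ∀ g : G, (g ≠ 1 ∧ ∃ c : G, c * g * c⁻¹ ∈ E) ↔ (g ≠ 1 ∧ orderOf g ∣ e) := by
    refine fun g => ⟨fun ⟨hg, c, hc⟩ => ⟨hg, ?_⟩, fun ⟨hg, hge⟩ => ⟨hg, ?_⟩⟩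
    · have := hEle _ hc
      rwa [← MulAut.conj_apply, MulEquiv.orderOf_eq] at this
    set l := (orderOf g).minFac
    have hl : l.Prime := Nat.minFac_prime fun h' => hg (orderOf_eq_one_iff.1 h')
    haveI := Fact.mk hl
    have hlg : l ∣ orderOf g := Nat.minFac_dvd _
    set v := e.factorization l
    have hv : l ^ v ∣ e := Nat.ordProj_dvd e l
    set τ := σ ^ (e / l ^ v) with hτ
    have hτo : orderOf τ = l ^ v := by
      rw [hτ, ← hσo]
      exact orderOf_pow_orderOf_div (orderOf_pos σ).ne' (hσo.symm ▸ hv)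
    have hfac : (Nat.card G).factorization l = v := by
      have hnd : ¬ l ∣ p * N := fun h' => hl.ne_one
        (Nat.eq_one_of_dvd_coprimes (Nat.Coprime.mul_right hep heN) (hlg.trans hge) h')
      rw [hcard, show p * (e * N) = p * N * e by ring,
        Nat.factorization_mul (Nat.mul_ne_zero hp.ne_zero (by omega)) (by omega), Finsupp.add_apply,
        Nat.factorization_eq_zero_of_not_dvd hnd, zero_add]
    let Q : Sylow l G := Sylow.ofCard (Subgroup.zpowers τ) (by rw [Nat.card_zpowers, hτo, hfac])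
    set y := g ^ (orderOf g / l) with hy
    have hyo : orderOf y = l := orderOf_pow_orderOf_div (orderOf_pos g).ne' hlg
    obtain ⟨c, hc⟩ := SmallPSL.exists_conj_mem_sylow Q
      (SmallPSL.isPGroup_of_orderOf (n := 1) (g := y) (by rw [hyo, pow_one]))
    refine ⟨c, ?_⟩
    have hcE : c * y * c⁻¹ ∈ E := by
      have : c * y * c⁻¹ ∈ Subgroup.zpowers τ := hc
      exact Subgroup.zpowers_le.2 (pow_mem (Subgroup.mem_zpowers σ) _) this
    have hc1 : c * y * c⁻¹ ≠ 1 := fun e' => by
      rw [conj_eq_one_iff] at e'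
      rw [e', orderOf_one] at hyo
      exact hl.one_lt.ne hyo
    rw [← hEC _ hcE hc1, Subgroup.mem_centralizer_singleton_iff]
    calc c * g * c⁻¹ * (c * y * c⁻¹) = c * (g * y) * c⁻¹ := by group
      _ = c * (y * g) * c⁻¹ := by rw [hy, (Commute.self_pow g _).eq]
      _ = _ := by group
  -- the number of elements of order `p`
  have hPcount : Nat.card {g : G // orderOf g = p} = N * (p - 1) := by
    have hCx := SmallPSL.card_conj_union (SCP.P x) fun a ha ha1 => SCP.cent_of_mem h ha ha1
    have hidx : (SCP.N x).index = N := by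
      have h1 := Subgroup.card_mul_index (SCP.N x)
      rw [SCP.card_N h, hcard, mul_assoc, he] at h1
      exact Nat.eq_of_mul_eq_mul_left (show 0 < e by omega) (Nat.eq_of_mul_eq_mul_left hp.pos h1)
    rw [hidx, SCP.card_P h] at hCx
    rw [← hCx]
    refine Nat.card_congr (Equiv.subtypeEquivRight fun g => ⟨fun hg => ⟨fun e' => ?_,
      SCP.exists_conj_mem h hg⟩, ?_⟩)
    · rw [e', orderOf_one] at hg
      exact hp.one_lt.ne hg
    · rintro ⟨hg1, c, hc⟩
      have h1 := SCP.orderOf_of_mem h hc (fun e' => hg1 (conj_eq_one_iff.1 e'))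
      rwa [← MulAut.conj_apply, MulEquiv.orderOf_eq] at h1
  -- the sum over `G` of the characters of degree `N`
  have hEcount : (Nat.card {g : G // g ≠ 1 ∧ orderOf g ∣ e} : ℤ) = (b : ℤ) * N * p := by
    set f : G → ℂ := fun g => ∑ χ ∈ D.C, (χ : G → ℂ) g with hf
    have h0 : ∑ g : G, f g = 0 := by
      simp only [hf]
      rw [Finset.sum_comm]
      refine Finset.sum_eq_zero fun χ hχ => ?_
      have h1 := classInner_irr_ne χ.2 (trivialIrr G).2
        (fun e' => D.nontriv χ (Or.inr (Or.inl hχ)) (Subtype.ext e'))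
      rw [classInner, mul_eq_zero] at h1
      rcases h1 with h1 | h1
      · exact absurd h1 (inv_ne_zero (Nat.cast_ne_zero.2 Nat.card_pos.ne'))
      · simpa [trivialIrr] using h1
    have hpt : ∀ g : G, f g = (if g = 1 then (b : ℂ) * (N : ℂ) else 0) +
        (if orderOf g = p then (b : ℂ) else 0) + (if g ≠ 1 ∧ orderOf g ∣ e then (-1 : ℂ) else 0) := by
      intro g
      by_cases h1 : g = 1
      · subst h1
        rw [if_pos rfl, if_neg (by rw [orderOf_one]; exact hp.one_lt.ne),
          if_neg (fun h' => h'.1 rfl), add_zero, add_zero]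
        simp only [hf]
        rw [Finset.sum_congr rfl (g := fun _ => (N : ℂ))
          (fun χ (hχ : χ ∈ D.C) => by rw [charDeg_spec', D.dC χ hχ]), Finset.sum_const, nsmul_eq_mul]
      rw [if_neg h1, zero_add]
      by_cases h2 : orderOf g = p
      · rw [if_pos h2, if_neg (fun h' => hpe h1 h'.2 (dvd_of_eq h2.symm)), add_zero]
        simp only [hf]
        rw [Finset.sum_congr rfl (g := fun _ => (1 : ℂ))
          (fun χ (hχ : χ ∈ D.C) => D.vC χ hχ g h2), Finset.sum_const, nsmul_eq_mul, mul_one]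
      rw [if_neg h2, zero_add]
      by_cases h3 : orderOf g ∣ e
      · rw [if_pos ⟨h1, h3⟩]
        set l := (orderOf g).minFac
        have hl : l.Prime := Nat.minFac_prime fun h' => h1 (orderOf_eq_one_iff.1 h')
        have hlg : l ∣ orderOf g := Nat.minFac_dvd _
        have h4 := D.rel θ hθ g (hpe h1 h3)
        rw [hvY hl (hlg.trans h3) θ hθ g hlg,
          Finset.sum_eq_zero (s := D.B) fun χ hχ => hvB hl (hlg.trans h3) χ hχ g hlg] at h4
        simp only [hf]
        linear_combination -h4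
      · rw [if_neg (fun h' => h3 h'.2)]
        have hd : orderOf g ∣ p * N * e := by
          rw [show p * N * e = Nat.card G by rw [hcard]; ring]; exact orderOf_dvd_natCard g
        obtain ⟨l, hl, hlg, hlN⟩ : ∃ l, l.Prime ∧ l ∣ orderOf g ∧ l ∣ N := by
          by_contra hno
          push Not at hno
          refine h3 ((Nat.coprime_of_dvd fun r hr h5 h6 => ?_).dvd_of_dvd_mul_left hd)
          rcases hr.dvd_mul.1 h6 with h7 | h7
          · exact h2 (ord_eq_p h ((Nat.prime_dvd_prime_iff_eq hr hp).1 h7 ▸ h5))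
          · exact hno r hr h5 h7
        exact Finset.sum_eq_zero fun χ hχ => hvC hl hlN χ hχ g hlg
    simp only [hpt, Finset.sum_add_distrib] at h0
    rw [Finset.sum_ite_eq' Finset.univ (1 : G), if_pos (Finset.mem_univ _), Finset.sum_ite,
      Finset.sum_ite, Finset.sum_const_zero, Finset.sum_const_zero, add_zero, add_zero,
      Finset.sum_const, Finset.sum_const, nsmul_eq_mul, nsmul_eq_mul, ← Fintype.card_subtype,
      ← Nat.card_eq_fintype_card, hPcount, ← Fintype.card_subtype, ← Nat.card_eq_fintype_card] at h0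
    apply Int.cast_injective (α := ℂ)
    push_cast [Nat.cast_sub hp.one_le] at h0 ⊢
    linear_combination -h0
  have hU := SmallPSL.card_conj_union E hEC
  rw [Nat.card_congr (Equiv.subtypeEquivRight hiff), hEc] at hU
  rw [hU] at hEcount
  set I := (Subgroup.normalizer (E : Set G)).index
  have h1 : I * (e - 1) = b * N * p := by exact_mod_cast hEcount
  rw [hNq, show e - 1 = 2 * (k * b) by omega] at h1
  have hb0 : 0 < b := Nat.pos_of_ne_zero fun h0 => by
    rw [h0, mul_zero, mul_zero, zero_add] at heb; omega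
  have h2 : I * k = q * p := by
    refine Nat.eq_of_mul_eq_mul_left (show 0 < 2 * b by omega) ?_
    calc 2 * b * (I * k) = I * (2 * (k * b)) := by ring
      _ = b * (2 * q) * p := h1
      _ = 2 * b * (q * p) := by ring
  have hkp : Nat.Coprime k p := (hp.coprime_iff_not_dvd.2 fun hd => by
    have := Nat.le_of_dvd (by omega) hd
    omega).symm
  have hkq : Nat.Coprime k q := by
    have h3 : Nat.Coprime k e := (Nat.Coprime.coprime_dvd_right (dvd_mul_left k 2) he2k).symm
    refine Nat.coprime_of_dvd fun r hr hrk hrq => hr.ne_one (Nat.eq_one_of_dvd_coprimes h3 hrk ?_)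
    have : r ∣ q + e := hqe ▸ hrk.mul_right p
    exact (Nat.dvd_add_right hrq).1 this
  have h4 : k = 1 := Nat.eq_one_of_dvd_coprimes (Nat.Coprime.mul_right hkq hkp) dvd_rfl
    (h2 ▸ dvd_mul_left k I)
  omega

end Cfsg.Agent.Block.Few
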