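import Mathlib
import Cfsg.Agent.Lib.Block.FewSylow.Half
import Cfsg.Agent.S4503

/-!
A simple group with a self-centralizing element of order `p`, `e < p - 1` and few Sylow subgroups
has order `p (p - 1) (p - e)`.
-/

set_option autoImplicit false
set_option linter.unusedSectionVars false

namespace Cfsg.Agent.Block.Few

open scoped ComplexConjugate
open Cfsg Cfsg.Agent.Block Cfsg.Agent.Char

universe u

variable {G : Type u} [Group G] [Fintype G] [IsSimpleGroup G] {p : ℕ} [Fact p.Prime] {x : G}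

/-- The exceptional characters of degree `k p - e`: then `k = 1`. -/
theorem main_case (hna : ¬ IsMulCommutative G) (h : SCP.Hyp p x) (hp5 : 5 ≤ p) {e t n k : ℕ}
    (he : SCP.e x = e) (hcard : Nat.card G = p * (e * (n * p + 1))) (he2 : 2 ≤ e)
    (het : e * t + 1 = p) (ht2 : 2 ≤ t) (D : Parts G p e t n) (hε : D.ε = -1)
    (hnk : n + 1 = k * t) (hdy : D.dy + e = k * p) (hB : D.B.card = D.C.card * n + k) : k = 1 := by
  classical
  by_contra hne
  have hp : p.Prime := Fact.out
  have hp2 : p ≠ 2 := by omega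
  have hk0 : k ≠ 0 := fun h0 => by rw [h0, zero_mul] at hnk; omega
  set q := D.dy with hq
  have heb : D.C.card * (k * t) + k + 1 = e := by
    have h1 := D.hBC
    rw [hB] at h1
    calc D.C.card * (k * t) + k + 1 = D.C.card * (n + 1) + k + 1 := by rw [hnk]
      _ = e := by linarith
  have hqbig : e * t < q := by
    have h1 := Nat.mul_le_mul_right p (show 2 ≤ k by omega)
    have h2 := Nat.mul_le_mul_left e ht2
    omega
  have hNq : n * p + 1 = t * q := by
    have h1 : (n + 1) * p = t * (q + e) := by rw [hnk, hdy]; ring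
    rw [Nat.add_mul, one_mul, Nat.mul_add, mul_comm t e] at h1
    omega
  have hcop : Nat.Coprime (e * t) q := by
    have h1 : Nat.Coprime (D.C.card * (k * t) + 1) (e * t) := by
      refine Nat.Coprime.mul_right ?_ ?_
      · have h2 : Nat.Coprime (D.C.card * (k * t) + 1) k := by
          rw [show D.C.card * (k * t) = D.C.card * t * k by ring, add_comm,
            Nat.coprime_add_mul_right_left]
          exact Nat.coprime_one_left _
        exact Eq.mp (congrArg (Nat.Coprime (D.C.card * (k * t) + 1))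
          (show D.C.card * (k * t) + 1 + k = e by omega)) (Nat.coprime_self_add_right.2 h2)
      · rw [show D.C.card * (k * t) = D.C.card * k * t by ring, add_comm,
          Nat.coprime_add_mul_right_left]
        exact Nat.coprime_one_left _
    have h2 : q + (D.C.card * (k * t) + 1) = k * (e * t) := by
      have h3 : k * p = k * (e * t) + k := by rw [← het]; ring
      omega
    refine Nat.coprime_of_dvd fun r hr hre hrq => hr.ne_one (Nat.eq_one_of_dvd_coprimes h1 ?_ hre)
    exact (Nat.dvd_add_right hrq).1 (h2.symm ▸ hre.mul_left k)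
  have hcard' : Nat.card G = p * ((e * t) * q) := by rw [hcard, hNq]; ring
  have hpet : ¬ p ∣ e * t := fun hd => by
    have := Nat.le_of_dvd (by omega) hd
    omega
  have hpq : ¬ p ∣ q := fun hd => by
    have h1 : p ∣ e := (Nat.dvd_add_right hd).1 (hdy ▸ dvd_mul_left p k)
    exact hpet (h1.mul_right t)
  have hvB : ∀ {l : ℕ}, l.Prime → l ∣ e * t → ∀ χ ∈ D.B, ∀ g : G, l ∣ orderOf g →
      (χ : G → ℂ) g = 0 := by
    intro l hl hld χ hχ g hg
    refine vanish hl χ (r := p * q) ?_ (fun h' => ?_) hg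
    · rw [D.dB χ hχ, hcard', show p - 1 = e * t by omega]; ring
    · rcases hl.dvd_mul.1 h' with h1 | h1
      · exact hpet ((Nat.prime_dvd_prime_iff_eq hl hp).1 h1 ▸ hld)
      · exact hl.ne_one (Nat.eq_one_of_dvd_coprimes hcop hld h1)
  have hvq : ∀ {l : ℕ}, l.Prime → l ∣ q → ∀ χ : IrrCharacter G, χ ∈ D.C ∨ χ ∈ D.Y → ∀ g : G,
      l ∣ orderOf g → (χ : G → ℂ) g = 0 := by
    intro l hl hld χ hχ g hg
    have hle : ¬ l ∣ p * (e * t) := fun h' => by
      rcases hl.dvd_mul.1 h' with h1 | h1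
      · exact hpq ((Nat.prime_dvd_prime_iff_eq hl hp).1 h1 ▸ hld)
      · exact hl.ne_one (Nat.eq_one_of_dvd_coprimes hcop h1 hld)
    rcases hχ with hχ | hχ
    · refine vanish hl χ (r := p * e) ?_
        (fun h' => hle (h'.trans (Nat.mul_dvd_mul_left p (dvd_mul_right e t)))) hg
      rw [D.dC χ hχ, hcard', hNq]; ring
    · refine vanish hl χ (r := p * (e * t)) ?_ hle hg
      rw [D.dY χ hχ, hcard']; ring
  obtain ⟨θ, hθ⟩ := Finset.card_pos.1 (show 0 < D.Y.card by rw [D.hY]; omega)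
  have h2et : 2 ∣ e * t := by
    rw [show e * t = p - 1 by omega]
    exact (Nat.Prime.even_sub_one hp hp2).two_dvd
  have hcent : ∀ z : G, orderOf z = 2 →
      Nat.card (Subgroup.centralizer ({z} : Set G)) ∣ e * t := fun z hz =>
    cent_inv_dvd h hp2 hz hcard' fun g hg h2g r hr hrq hrg => by
      have h1 := D.rel θ hθ g hg
      rw [hvq hr hrq θ (Or.inr hθ) g hrg, Finset.sum_eq_zero fun χ hχ => hvq hr hrq χ (Or.inl hχ) g hrg,
        Finset.sum_eq_zero fun χ hχ => hvB Nat.prime_two h2et χ hχ g h2g] at h1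
      norm_num at h1
  -- the class equation at an involution
  have key : ∀ g z : G, orderOf g = p → orderOf z = 2 →
      (e : ℤ) * t * q ≤ (Nat.card {c : G // IsConj g (z * (c * z * c⁻¹))} : ℤ) := by
    intro g z hg hz
    choose a ha ha4 using fun χ : IrrCharacter G =>
      OrdP.involution_value hna χ (x := z) (by rw [← hz]; exact pow_orderOf_eq_one _)
    have hyv : ∀ ξ ∈ D.Y, (ξ : G → ℂ) z = -((1 + ∑ χ ∈ D.C, a χ : ℤ) : ℂ) := by
      intro ξ hξ
      have h1 := D.rel ξ hξ z (by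
        rw [hz]; exact fun hd => hp2 ((Nat.prime_dvd_prime_iff_eq hp Nat.prime_two).1 hd))
      rw [hε, Finset.sum_eq_zero (s := D.B) fun χ hχ =>
          hvB Nat.prime_two h2et χ hχ z (dvd_of_eq hz.symm),
        Finset.sum_congr rfl (g := fun χ : IrrCharacter G => (a χ : ℂ)) (fun χ _ => ha χ)] at h1
      push_cast at h1 ⊢
      linear_combination -h1
    have hf := class_u h hg z
    rw [show ∑ χ : IrrCharacter G, conj ((χ : G → ℂ) g) * (χ : G → ℂ) z * (χ : G → ℂ) z /
        (χ : G → ℂ) 1 = ∑ χ : IrrCharacter G, conj ((χ : G → ℂ) g) *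
          ((χ : G → ℂ) z * (χ : G → ℂ) z / (χ : G → ℂ) 1) from
        Finset.sum_congr rfl fun χ _ => by ring,
      D.at_u g hg, Finset.sum_eq_zero (s := D.B) (fun χ hχ => by
        rw [hvB Nat.prime_two h2et χ hχ z (dvd_of_eq hz.symm), mul_zero, zero_div]),
      Finset.sum_congr rfl (g := fun χ : IrrCharacter G => (a χ : ℂ) ^ 2 / ((t * q : ℕ) : ℂ))
        (fun χ (hχ : χ ∈ D.C) => by rw [ha, charDeg_spec', D.dC χ hχ, hNq]; ring),
      Finset.sum_congr rfl (g := fun ξ : IrrCharacter G => conj ((ξ : G → ℂ) g) *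
          (((1 + ∑ χ ∈ D.C, a χ : ℤ) : ℂ) ^ 2 / (q : ℂ)))
        (fun ξ (hξ : ξ ∈ D.Y) => by rw [hyv ξ hξ, charDeg_spec', D.dY ξ hξ]; ring),
      ← Finset.sum_div, ← Finset.sum_mul, D.sum_Y hg, hε, hcard'] at hf
    simp only [trivialIrr, mul_one, div_one, sub_zero] at hf
    set A : ℤ := ∑ χ ∈ D.C, a χ ^ 2 with hA
    set y : ℤ := 1 + ∑ χ ∈ D.C, a χ with hy
    have hkey : (Nat.card {c : G // IsConj g (z * (c * z * c⁻¹))} : ℤ) =
        (e : ℤ) * ((t : ℤ) * q + A + (t : ℤ) * y ^ 2) := by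
      apply Int.cast_injective (α := ℂ)
      refine mul_left_cancel₀ (Nat.cast_ne_zero.2 hp.ne_zero : (p : ℂ) ≠ 0) ?_
      have ht0 : (t : ℂ) ≠ 0 := Nat.cast_ne_zero.2 (by omega)
      have hq0 : (q : ℂ) ≠ 0 := Nat.cast_ne_zero.2 D.dy_pos.ne'
      rw [hA]
      push_cast at hf ⊢
      rw [hf]
      field_simp
    rw [hkey, mul_assoc]
    refine mul_le_mul_of_nonneg_left ?_ (Nat.cast_nonneg _)
    have : 0 ≤ A := Finset.sum_nonneg fun χ _ => sq_nonneg _
    nlinarith [sq_nonneg y]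
  haveI : Fact (Nat.Prime 2) := ⟨Nat.prime_two⟩
  obtain ⟨z, hz⟩ := exists_prime_orderOf_dvd_card' (G := G) 2
    (hcard' ▸ (h2et.mul_right q).mul_left p)
  have hpos : 0 < Nat.card {c : G // IsConj x (z * (c * z * c⁻¹))} := by
    have h1 := key x z h.ord hz
    have h2 : (0 : ℤ) < (e : ℤ) * t * q := by
      have := D.dy_pos
      positivity
    omega
  obtain ⟨⟨c, hc⟩⟩ := (Nat.card_pos_iff.1 hpos).1
  obtain ⟨S⟩ := exists_inv h hp2 (even_of_real h hp2 h.ord hz hc)
  have h1 := key S.u S.t S.hu S.ht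
  rw [S.count hp2] at h1
  have h2 := Nat.le_of_dvd (by omega) (hcent S.t S.ht)
  have h3 : e * t * q ≤ (e * t) ^ 2 :=
    le_trans (by exact_mod_cast h1) (Nat.pow_le_pow_left h2 2)
  rw [sq] at h3
  have := Nat.le_of_mul_le_mul_left h3 (by omega)
  omega

/-- With `1 < e < p - 1` and at least `2 p + 1` Sylow subgroups: the order is below `p ^ 3`. -/
theorem proper_lt (hna : ¬ IsMulCommutative G) (h : SCP.Hyp p x) (hp5 : 5 ≤ p) {e t n : ℕ}
    (he : SCP.e x = e) (hn2 : 2 ≤ n) (hcard : Nat.card G = p * (e * (n * p + 1)))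
    (hsmall : 2 * n ≤ p + 2) (he2 : 2 ≤ e) (het : e * t + 1 = p) (ht2 : 2 ≤ t) :
    Nat.card G < p ^ 3 := by
  classical
  have hp : p.Prime := Fact.out
  subst he
  obtain ⟨D⟩ := exists_parts hna h hp5 (by omega) hcard hsmall he2 het ht2
  set e := SCP.e x with he
  set N := n * p + 1 with hN
  have hNp : 2 * p + 1 ≤ N := by
    have := Nat.mul_le_mul_right p hn2
    omega
  have hep : e * 2 + 1 ≤ p := by
    have := Nat.mul_le_mul_left e ht2
    omega
  have hBC : (D.B.card : ℤ) + D.C.card + 1 = e := by exact_mod_cast D.hBC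
  set J : ℤ := (D.B.card : ℤ) - (D.C.card : ℤ) * n with hJ
  have hdeg : D.ε * (D.dy : ℤ) = (e : ℤ) - (p : ℤ) * J := by
    rw [D.hdeg, hJ]; linear_combination hBC
  obtain ⟨θ, hθ⟩ := Finset.card_pos.1 (show 0 < D.Y.card by rw [D.hY]; omega)
  have hθne : θ ≠ trivialIrr G := D.nontriv θ (Or.inr (Or.inr hθ))
  have hpdy : ¬ p ∣ D.dy := fun hd => by
    have h1 := (Int.modEq_zero_iff_dvd).1
      (D.hdy.symm.trans (Int.modEq_zero_iff_dvd.2 (Int.natCast_dvd_natCast.2 hd)))
    have h2 : (p : ℤ) ∣ (e : ℤ) := by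
      rcases D.hε with hε | hε <;> rw [hε] at h1
      · rwa [one_mul] at h1
      · rwa [neg_one_mul, dvd_neg] at h1
    have := Nat.le_of_dvd (by omega) (Int.natCast_dvd_natCast.1 h2)
    omega
  obtain ⟨d2, hd20, hmul, hlt⟩ := cofactor h hcard hθne (by rw [D.dY θ hθ]; exact hpdy)
  rw [D.dY θ hθ] at hmul hlt
  replace hmul : D.dy * d2 = e * N := hmul
  have hpz : (0 : ℤ) < p := by exact_mod_cast hp.pos
  have hpet : (p : ℤ) = (e : ℤ) * t + 1 := by exact_mod_cast het.symm
  have hsm : 2 * (n : ℤ) ≤ (p : ℤ) + 2 := by exact_mod_cast hsmall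
  by_cases hBe : D.B.card = 0
  · exfalso
    have h1 := D.hdeg
    rw [hBe, Nat.cast_zero, zero_mul, sub_zero] at h1
    have hε : D.ε = 1 := D.hε.resolve_right fun hε => by
      rw [hε] at h1
      have h2 : (0 : ℤ) ≤ (D.C.card : ℤ) * ((n : ℤ) * p + 1) := by positivity
      have h3 : (0 : ℤ) ≤ (D.dy : ℤ) := Nat.cast_nonneg _
      linarith
    rw [hε, one_mul] at h1
    have h2 : D.dy = 1 + D.C.card * N := by rw [hN]; exact_mod_cast h1
    have hcop : Nat.Coprime D.dy N := by
      rw [h2, Nat.coprime_add_mul_right_left]; exact Nat.coprime_one_left N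
    have h3 := Nat.le_of_dvd (by omega) (hcop.dvd_of_dvd_mul_right ⟨d2, hmul.symm⟩)
    have h4 := Nat.le_mul_of_pos_left N (show 0 < D.C.card by
      have := D.hBC; omega)
    omega
  obtain ⟨χb, hχb⟩ := Finset.card_pos.1 (Nat.pos_of_ne_zero hBe)
  obtain ⟨f, hf0, hfmul, hflt⟩ := cofactor h hcard (D.nontriv χb (Or.inl hχb)) (by
    rw [D.dB χb hχb]
    intro hd
    have := Nat.le_of_dvd (by omega) hd
    omega)
  rw [D.dB χb hχb] at hfmul
  replace hfmul : (p - 1) * f = e * N := hfmul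
  have hfmul' : ((1 : ℤ) * p - 1) * f = (e : ℤ) * ((n : ℤ) * p + 1) := by
    have h1 : (((p - 1) * f : ℕ) : ℤ) = ((e * N : ℕ) : ℤ) := by rw [hfmul]
    rw [hN] at h1
    push_cast [Nat.cast_sub hp.one_le] at h1
    linear_combination h1
  obtain ⟨b, hb1, hb⟩ := cofactor_minus hpz (by exact_mod_cast (show 0 < e by omega))
    (by exact_mod_cast hf0) hfmul'
  have hone : b * (p : ℤ) - e ≠ 1 := fun h1 => by
    rw [h1] at hb
    have h2 : f = 1 := by exact_mod_cast hb
    rw [h2, mul_one] at hfmul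
    have := Nat.mul_le_mul he2 hNp
    omega
  rw [hb] at hfmul'
  obtain ⟨-, hnb⟩ := minus_case (by exact_mod_cast he2) (by exact_mod_cast (show 1 ≤ t by omega))
    hpet hsm le_rfl hb1 hone hfmul'
  rcases le_or_gt J 0 with hJ0 | hJ0
  · -- `ε = 1` and the exceptional degree is `e`
    exfalso
    have hpJ : (p : ℤ) * J ≤ 0 := mul_nonpos_of_nonneg_of_nonpos hpz.le hJ0
    have hε : D.ε = 1 := D.hε.resolve_right fun hε => by
      rw [hε] at hdeg
      have h2 : (0 : ℤ) ≤ (D.dy : ℤ) := Nat.cast_nonneg _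
      have h3 : (0 : ℤ) < (e : ℤ) := by exact_mod_cast (show 0 < e by omega)
      linarith
    rw [hε, one_mul] at hdeg
    obtain ⟨i, hi⟩ : ∃ i : ℕ, J = -(i : ℤ) := ⟨(-J).toNat, by omega⟩
    have hdyi : D.dy = i * p + e := by
      have h1 : (D.dy : ℤ) = ((i * p + e : ℕ) : ℤ) := by
        rw [hdeg, hi]; push_cast; ring
      exact_mod_cast h1
    rw [hdyi] at hmul hlt
    obtain ⟨a, ha⟩ := cofactor_e hp (by omega) (by omega) hd20 hmul
    have ha1 : 1 ≤ a := Nat.pos_of_ne_zero fun h0 => by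
      rw [h0, zero_mul, zero_add] at ha
      rw [ha, one_mul] at hlt
      rw [ha, mul_one] at hmul
      have := Nat.mul_le_mul he2 hNp
      omega
    have hi0 : i = 0 := by
      have h1 : (((i * p + e) * d2 : ℕ) : ℤ) = ((e * N : ℕ) : ℤ) := by rw [hmul]
      rw [ha, hN] at h1
      push_cast at h1
      have h2 := plus_case (p := (p : ℤ)) (n := (n : ℤ)) (a := (a : ℤ)) (b := (i : ℤ))
        (by exact_mod_cast he2) (by exact_mod_cast (show 1 ≤ t by omega)) hpet hsm
        (by exact_mod_cast ha1) (Nat.cast_nonneg i) (by linear_combination h1)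
      exact_mod_cast h2
    rw [hi0, zero_mul, zero_add] at hdyi
    have hlow : p ≤ 2 * D.dy + 1 := by
      rw [← D.dY θ hθ]
      refine Cfsg.Agent.S4503.result p hp ⟨e * N, hcard⟩ ?_ ?_ (θ : G → ℂ)
        (IsIrr.isCharacter θ.2) fun g hg => OrdP.eq_one_of_value hθne hg
      · rw [hcard, pow_two]
        intro h'
        rcases hp.dvd_mul.1 (Nat.dvd_of_mul_dvd_mul_left hp.pos h') with h2 | h2
        · have := Nat.le_of_dvd (by omega) h2
          omega
        · rw [hN] at h2
          exact hp.not_dvd_one ((Nat.dvd_add_right (dvd_mul_left p n)).1 h2)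
      · intro K hK hKc
        rcases IsSimpleGroup.eq_bot_or_eq_top_of_normal K hK with h' | h'
        · rw [h', Subgroup.card_bot] at hKc
          exact hp.ne_one hKc.symm
        · rw [h', Subgroup.card_top, hcard] at hKc
          have h1 : e * N = 1 := Nat.eq_of_mul_eq_mul_left hp.pos (hKc.trans (mul_one p).symm)
          have := Nat.eq_one_of_mul_eq_one_right h1
          omega
    have ht : t = 2 := by
      by_contra hne
      have := Nat.mul_le_mul_left e (show 3 ≤ t by omega)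
      omega
    subst ht
    obtain ⟨k, hk⟩ : ∃ k : ℕ, (k : ℤ) = b := ⟨b.toNat, by omega⟩
    refine half_false h hp5 rfl hn2 hcard hsmall he2 het D hε hdyi (k := k) ?_ ?_
    · have h1 : ((n + 1 : ℕ) : ℤ) = ((k * 2 : ℕ) : ℤ) := by
        push_cast at hnb ⊢; rw [hk]; linarith
      exact_mod_cast h1
    · rw [hi0, Nat.cast_zero, neg_zero, hJ] at hi
      have h1 : (D.B.card : ℤ) = ((D.C.card * n : ℕ) : ℤ) := by push_cast; linarith
      exact_mod_cast h1
  · -- `ε = -1`
    have hε : D.ε = -1 := D.hε.resolve_left fun hε => by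
      rw [hε, one_mul] at hdeg
      have h1 : (p : ℤ) * 1 ≤ (p : ℤ) * J := mul_le_mul_of_nonneg_left hJ0 hpz.le
      have h2 : (0 : ℤ) ≤ (D.dy : ℤ) := Nat.cast_nonneg _
      have h3 : (e : ℤ) < p := by exact_mod_cast (show e < p by omega)
      linarith
    rw [hε] at hdeg
    obtain ⟨k, hk⟩ : ∃ k : ℕ, (k : ℤ) = J := ⟨J.toNat, by omega⟩
    have hdyk : (D.dy : ℤ) = (k : ℤ) * p - e := by rw [hk]; linarith
    have hmul' : ((k : ℤ) * p - e) * d2 = (e : ℤ) * ((n : ℤ) * p + 1) := by
      rw [← hdyk]; exact_mod_cast hmul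
    obtain ⟨a, ha1, ha⟩ := cofactor_neg_e hp (by omega) (by omega) hd20 hmul'
    rw [ha] at hmul'
    have hk1 : 1 ≤ k := by omega
    have hone' : (k : ℤ) * p - e ≠ 1 := fun h1 => by
      have h2 : D.dy = 1 := by
        have : (D.dy : ℤ) = ((1 : ℕ) : ℤ) := by rw [hdyk, h1]; rfl
        exact_mod_cast this
      have h3 := OrdP.two_le_deg hna hθne
      rw [D.dY θ hθ] at h3
      omega
    obtain ⟨-, hnk⟩ := minus_case (a := (a : ℤ)) (b := (k : ℤ)) (by exact_mod_cast he2) (by exact_mod_cast (show 1 ≤ t by omega))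
      hpet hsm (by exact_mod_cast ha1) (by exact_mod_cast hk1) hone'
      (by linear_combination hmul')
    have hnk' : n + 1 = k * t := by
      have h1 : ((n + 1 : ℕ) : ℤ) = ((k * t : ℕ) : ℤ) := by push_cast; linarith
      exact_mod_cast h1
    have hkeq : k = 1 := main_case hna h hp5 rfl hcard he2 het ht2 D hε hnk'
      (by
        have h1 : ((D.dy + e : ℕ) : ℤ) = ((k * p : ℕ) : ℤ) := by push_cast; linarith
        exact_mod_cast h1)
      (by
        have h1 : (D.B.card : ℤ) = ((D.C.card * n + k : ℕ) : ℤ) := by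
          push_cast; rw [hk, hJ]; ring
        exact_mod_cast h1)
    subst hkeq
    rw [hcard, pow_succ' p 2, sq]
    refine Nat.mul_lt_mul_of_pos_left ?_ hp.pos
    have h1 : (((e * N : ℕ)) : ℤ) < ((p * p : ℕ) : ℤ) := by
      rw [hN]
      push_cast
      rw [Nat.cast_one, one_mul] at hnk
      rw [hnk, hpet]
      have h5 : (0 : ℤ) ≤ (e : ℤ) * t := by positivity
      have h6 : (0 : ℤ) ≤ (e : ℤ) * e * t := by positivity
      ring_nf
      ring_nf at h5 h6
      linarith
    exact_mod_cast h1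

end Cfsg.Agent.Block.Few
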