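import Mathlib
import Cfsg.Agent.Lib.Block.FewSylow.Full
import Cfsg.Agent.Lib.Block.FewSylow.Proper
import Cfsg.Agent.Lib.Block.Cube.Main
import Cfsg.Agent.S4509

/-!
A perfect group with an element of order `p` generating its centralizer and fewer than
`(p + 1) (p + 2) / 2` Sylow `p`-subgroups is simple, of order below `p ^ 3`.
-/

set_option autoImplicit false
set_option linter.unusedSectionVars false

namespace Cfsg.Agent.Block.Few

open scoped ComplexConjugate
open Cfsg Cfsg.Agent.Block Cfsg.Agent.Char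

universe u

variable {G : Type u} [Group G] [Fintype G] {p : ℕ} [Fact p.Prime] {x : G}

theorem not_comm (hperf : commutator G = ⊤) (h : SCP.Hyp p x) : ¬ IsMulCommutative G := fun hc => by
  refine SCP.ne_one h (Subgroup.mem_bot.1 ?_)
  rw [← show commutator G = ⊥ from ?_, hperf]
  · exact Subgroup.mem_top x
  · rw [commutator_def, eq_bot_iff, Subgroup.commutator_le]
    intro a _ b _
    rw [Subgroup.mem_bot, commutatorElement_eq_one_iff_mul_comm]
    exact hc.is_comm.comm a b

theorem one_lt_e (hperf : commutator G = ⊤) (h : SCP.Hyp p x) : 1 < SCP.e x := by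
  have hne : SCP.e x ≠ 1 := fun he => by
    have h1 := (SCP.commutator_eq_core_of_one h he).2
    rw [hperf, Subgroup.index_top] at h1
    exact (Fact.out : p.Prime).one_lt.ne h1
  have hne0 : SCP.e x ≠ 0 := fun he => by
    have h1 := SCP.card_N h
    rw [he, mul_zero] at h1
    exact Nat.card_pos.ne' h1
  omega

/-- The group is simple. -/
theorem simple (hperf : commutator G = ⊤) (h : SCP.Hyp p x) {n : ℕ}
    (hn : (SCP.N x).index = n * p + 1) (hsmall : 2 * n ≤ p + 2) : IsSimpleGroup G := by
  classical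
  have hp : p.Prime := Fact.out
  haveI hSn := Cfsg.Agent.Grp.pPrimeCore_isNormal (p := p) (G := G)
  set S := Cfsg.pPrimeCore p G with hS
  have hSp : ¬ p ∣ Nat.card S := Cfsg.Agent.Grp.pPrimeCore_not_dvd
  have hSbot : S = ⊥ := by
    by_contra hne
    have hmod : Nat.card S % p = 1 := by
      let act : MulAction (SCP.P x) S :=
        { smul := fun a s => ⟨(a : G) * s * (a : G)⁻¹, hSn.conj_mem _ s.2 _⟩
          one_smul := fun s => Subtype.ext (by
            show ((1 : SCP.P x) : G) * s * ((1 : SCP.P x) : G)⁻¹ = s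
            simp)
          mul_smul := fun a b s => Subtype.ext (by
            show ((a * b : SCP.P x) : G) * s * ((a * b : SCP.P x) : G)⁻¹ =
              (a : G) * ((b : G) * s * (b : G)⁻¹) * (a : G)⁻¹
            simp [mul_assoc]) }
      have h1 := (IsPGroup.of_card (n := 1) (by rw [SCP.card_P h, pow_one]) :
        IsPGroup p (SCP.P x)).card_modEq_card_fixedPoints S
      have h2 : Nat.card (MulAction.fixedPoints (SCP.P x) S) = 1 := by
        rw [Nat.card_eq_one_iff_unique]
        refine ⟨⟨fun a b => Subtype.ext ?_⟩, ⟨⟨1, fun a => Subtype.ext ?_⟩⟩⟩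
        · have key : ∀ s : MulAction.fixedPoints (SCP.P x) S, (s : S) = 1 := fun s => by
            refine Subtype.ext (SCP.fix_of_coprime h hSp (s : S).2 ?_)
            have h3 := congrArg Subtype.val (s.2 ⟨x, Subgroup.mem_zpowers x⟩)
            change x * ((s : S) : G) * x⁻¹ = ((s : S) : G) at h3
            exact (mul_inv_eq_iff_eq_mul.1 h3).symm
          rw [key a, key b]
        · show (a : G) * ((1 : S) : G) * (a : G)⁻¹ = ((1 : S) : G)
          simp
      rw [h2] at h1
      exact Eq.trans h1 (Nat.one_mod_eq_one.2 hp.ne_one)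
    have hinf := SCP.inf_N_eq_bot h hSp
    set M := SCP.N x ⊔ S with hM
    have hidx : (SCP.N x).index = Nat.card S * M.index := by
      have h1 : S.relIndex M = Nat.card (SCP.N x) := by
        rw [hM, Subgroup.relIndex_sup_right, ← Subgroup.inf_relIndex_right, hinf,
          Subgroup.relIndex_bot_left]
      have h2 := Subgroup.relIndex_mul_index (show S ≤ M from le_sup_right)
      rw [h1] at h2
      refine Nat.eq_of_mul_eq_mul_left (Nat.card_pos (α := SCP.N x)) ?_
      rw [Subgroup.card_mul_index, ← Subgroup.card_mul_index S, ← h2]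
      ring
    rw [hn] at hidx
    by_cases hM1 : M.index = 1
    · rw [hM1, mul_one] at hidx
      have hcount : Nat.card {H : Subgroup G // Nat.card H = p} = 1 + n * p := by
        rw [← SCP.N_index_eq h, hn, add_comm]
      obtain ⟨hiff, ht1, ht2⟩ :=
        Cfsg.Agent.S4509.result p hp x h.ord h.cent _ rfl n hcount
      rcases hiff.1 ⟨S, hSn, by rw [← hidx, add_comm]⟩ with h3 | ⟨-, h3⟩
      · have h4 := (ht1 h3).2.2
        rw [hperf, Subgroup.index_top] at h4
        exact hp.one_lt.ne h4
      · apply h3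
        rw [derivedSeries_succ, derivedSeries_one, hperf]
        rw [← commutator_def, hperf]
    · have h4 : M.index % p = 1 := by
        have h5 : (n * p + 1) % p = 1 := by
          rw [Nat.mul_add_mod_self_right, Nat.one_mod_eq_one.2 hp.ne_one]
        rw [hidx, Nat.mul_mod, hmod, one_mul, Nat.mod_mod] at h5
        exact h5
      have hS1 : p + 1 ≤ Nat.card S := by
        have h5 := Nat.div_add_mod (Nat.card S) p
        rw [hmod] at h5
        have h6 : 1 ≤ Nat.card S / p := Nat.pos_of_ne_zero fun h0 => hne (by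
          rw [h0, mul_zero, zero_add] at h5
          exact Subgroup.card_eq_one.1 h5.symm)
        have := Nat.mul_le_mul_left p h6
        omega
      have hM2 : p + 1 ≤ M.index := by
        have h5 := Nat.div_add_mod M.index p
        rw [h4] at h5
        have h6 : 1 ≤ M.index / p := Nat.pos_of_ne_zero fun h0 => hM1 (by
          rw [h0, mul_zero, zero_add] at h5
          exact h5.symm)
        have := Nat.mul_le_mul_left p h6
        omega
      have h7 := Nat.mul_le_mul hS1 hM2
      rw [← hidx] at h7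
      have h8 : p * (p + 2) ≤ n * p := by
        have : (p + 1) * (p + 1) = p * (p + 2) + 1 := by ring
        omega
      rw [mul_comm n p] at h8
      have := Nat.le_of_mul_le_mul_left h8 hp.pos
      omega
  haveI : Nontrivial G := ⟨⟨x, 1, SCP.ne_one h⟩⟩
  refine ⟨fun K hK => ?_⟩
  by_cases hd : p ∣ Nat.card K
  · right
    obtain ⟨⟨y, hy⟩, hyo⟩ := exists_prime_orderOf_dvd_card' (G := K) p hd
    rw [Subgroup.orderOf_mk] at hyo
    obtain ⟨c, hc⟩ := SCP.exists_conj_mem h hyo
    have hne : c * y * c⁻¹ ≠ 1 := fun e => by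
      rw [conj_eq_one_iff] at e
      rw [e, orderOf_one] at hyo
      exact hp.one_lt.ne hyo
    have hxK : x ∈ K := by
      have h1 : Subgroup.zpowers (c * y * c⁻¹) ≤ K := Subgroup.zpowers_le.2 (hK.conj_mem y hy c)
      rw [SCP.zpowers_eq_of_mem h hc hne] at h1
      exact h1 (Subgroup.mem_zpowers x)
    exact eq_top_iff.2 (hperf ▸ SCP.commutator_le_of_mem h hxK)
  · left
    exact le_bot_iff.1 (hSbot ▸ Cfsg.Agent.Grp.le_pPrimeCore hK
      (hp.coprime_iff_not_dvd.2 hd).symm)

/-- The order is below `p ^ 3`. -/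
theorem card_lt [IsSimpleGroup G] (hna : ¬ IsMulCommutative G) (h : SCP.Hyp p x) (hp5 : 5 ≤ p)
    (he1 : 1 < SCP.e x) {n : ℕ} (hcard : Nat.card G = p * (SCP.e x * (n * p + 1)))
    (hsmall : 2 * n ≤ p + 2) : Nat.card G < p ^ 3 := by
  have hp : p.Prime := Fact.out
  obtain ⟨t, ht⟩ := SCP.e_dvd h
  have het : SCP.e x * t + 1 = p := by omega
  rcases Nat.lt_or_ge n 2 with hn | hn
  · have h1 : SCP.e x ≤ p - 1 := Nat.le_of_dvd (by omega) (SCP.e_dvd h)
    have h2 : n * p + 1 ≤ p + 1 := by
      have := Nat.mul_le_mul_right p (show n ≤ 1 by omega)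
      omega
    have h3 : (p - 1) * (p + 1) < p * p := by
      obtain ⟨r, rfl⟩ : ∃ r, p = r + 1 := ⟨p - 1, by omega⟩
      rw [Nat.add_sub_cancel]
      nlinarith
    rw [hcard, pow_succ' p 2, sq]
    exact Nat.mul_lt_mul_of_pos_left (lt_of_le_of_lt (Nat.mul_le_mul h1 h2) h3) hp.pos
  · rcases Nat.lt_or_ge t 2 with ht2 | ht2
    · exfalso
      interval_cases t
      · omega
      · exact full_false hna h hp5 hn hcard hsmall (by omega)
    · exact proper_lt hna h hp5 rfl hn hcard hsmall (by omega) het ht2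

theorem main (hperf : commutator G = ⊤) (h : SCP.Hyp p x)
    (hn : 2 * Nat.card (Sylow p G) < (p + 1) * (p + 2)) :
    (∃ (F : Type) (_ : Field F) (_ : Fintype F), Fintype.card F = p ∧ 3 < p ∧
      Nonempty (G ≃* Matrix.ProjectiveSpecialLinearGroup (Fin 2) F)) ∨
    (∃ (m : ℕ) (F : Type) (_ : Field F) (_ : Fintype F), Fintype.card F = 2 ^ m ∧ p = 2 ^ m + 1 ∧
      3 < p ∧ Nonempty (G ≃* Matrix.ProjectiveSpecialLinearGroup (Fin 2) F)) := by
  classical
  have hp : p.Prime := Fact.out
  obtain ⟨Q, hQ⟩ := SCP.exists_sylow h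
  have hidx : (SCP.N x).index = Nat.card (Sylow p G) := by
    rw [Q.card_eq_index_normalizer, ← Sylow.coe_coe Q, hQ]
  obtain ⟨n, hnn⟩ : ∃ n, Nat.card (Sylow p G) = n * p + 1 := by
    refine ⟨Nat.card (Sylow p G) / p, ?_⟩
    have h1 : Nat.card (Sylow p G) % p = 1 :=
      Eq.trans (card_sylow_modEq_one p G) (Nat.one_mod_eq_one.2 hp.ne_one)
    have := Nat.div_add_mod (Nat.card (Sylow p G)) p
    rw [mul_comm]
    omega
  have hsmall : 2 * n ≤ p + 2 := by
    rw [hnn] at hn
    have h2 : p * (2 * n) < p * (p + 3) := by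
      have : (p + 1) * (p + 2) = p * (p + 3) + 2 := by ring
      have : p * (2 * n) = 2 * (n * p) := by ring
      omega
    have := Nat.lt_of_mul_lt_mul_left h2
    omega
  haveI := simple hperf h (hidx.trans hnn) hsmall
  have hna := not_comm hperf h
  have he1 := one_lt_e hperf h
  have hcard : Nat.card G = p * (SCP.e x * (n * p + 1)) := by
    rw [← Subgroup.card_mul_index (SCP.N x), SCP.card_N h, hidx, hnn, mul_assoc]
  have hp5 : 5 ≤ p := by
    by_contra hlt
    have hed := Nat.le_of_dvd (by have := hp.two_le; omega) (SCP.e_dvd h)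
    obtain rfl : p = 3 := by
      have : p ≠ 4 := fun h4 => absurd (h4 ▸ hp : Nat.Prime 4) (by norm_num)
      omega
    obtain ⟨k, hk0, hks, -, -, -, hfac⟩ := small_sylow_number hna Q (a := 1)
      (m := SCP.e x * (n * 3 + 1)) (by rw [pow_one, hcard]) one_ne_zero
    have hkn : k = n := by rw [hnn] at hks; omega
    subst hkn
    have he : SCP.e x = 2 := by omega
    rw [he] at hcard
    have hk2 : k = 1 ∨ k = 2 := by omega
    rcases hk2 with rfl | rfl
    · rw [hcard] at hfac
      norm_num [Nat.factorial] at hfac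
    · haveI : Fact (Nat.Prime 7) := ⟨by norm_num⟩
      obtain ⟨R⟩ : Nonempty (Sylow 7 G) := inferInstance
      obtain ⟨j, hj0, -, hjm, -⟩ := small_sylow_number hna R (a := 1) (m := 6)
        (by rw [hcard]; norm_num) one_ne_zero
      have := Nat.le_of_dvd (by norm_num) hjm
      omega
  refine Cube.main (fun hc => hna ⟨⟨fun a b => ?_⟩⟩) (SCP.dvd_card h)
    (card_lt hna h hp5 he1 hcard hsmall)
  letI := IsCyclic.commGroup (α := G)
  exact mul_comm a b

end Cfsg.Agent.Block.Few
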